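import Mathlib

/-!
# Parity of an involution on its conjugacy class (helper708)

`card_eq`: if every homomorphism `G → {±1}` is trivial then `|x^G| ≡ |x^G ∩ C(x)|` modulo 4.
-/

set_option autoImplicit false

namespace Cfsg.Agent.OddHalf.D6.Six.Parity

open Subgroup Equiv

variable {G : Type*} [Group G]

theorem aux {x u c : G} (h : u * x * u⁻¹ = c * x * c⁻¹) : u⁻¹ * c * x = x * (u⁻¹ * c) := by
  calc u⁻¹ * c * x = u⁻¹ * (c * x * c⁻¹) * c := by group
    _ = x * (u⁻¹ * c) := by rw [← h]; group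

/-- orbits and stabilizers, for conjugation by the elements of `H` -/
theorem card_orbit [Finite G] (x : G) (H : Subgroup G) :
    Nat.card H = {d : G | ∃ h ∈ H, h * x * h⁻¹ = d}.ncard * Nat.card ((H ⊓ centralizer {x} : Subgroup G)) := by
  classical
  have hch : ∀ d : {d : G | ∃ h ∈ H, h * x * h⁻¹ = d}, ∃ h ∈ H, h * x * h⁻¹ = d := fun d => d.2
  choose w hwH hw using hch
  have key : ∀ (d : {d : G | ∃ h ∈ H, h * x * h⁻¹ = d}) (m : G), m ∈ centralizer ({x} : Set G) →
      w d * m * x * (w d * m)⁻¹ = d := by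
    intro d m hm
    rw [mem_centralizer_singleton_iff] at hm
    calc w d * m * x * (w d * m)⁻¹ = w d * (m * x) * m⁻¹ * (w d)⁻¹ := by group
      _ = w d * (x * m) * m⁻¹ * (w d)⁻¹ := by rw [hm]
      _ = w d * x * (w d)⁻¹ := by group
      _ = d := hw d
  let e : H ≃ {d : G | ∃ h ∈ H, h * x * h⁻¹ = d} × ((H ⊓ centralizer {x} : Subgroup G)) :=
    { toFun := fun h =>
        (⟨(h : G) * x * (h : G)⁻¹, h, h.2, rfl⟩, ⟨(w ⟨(h : G) * x * (h : G)⁻¹, h, h.2, rfl⟩)⁻¹ * h, by
          refine ⟨H.mul_mem (H.inv_mem (hwH _)) h.2, ?_⟩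
          show _ ∈ centralizer ({x} : Set G)
          rw [mem_centralizer_singleton_iff]
          exact aux (hw ⟨(h : G) * x * (h : G)⁻¹, h, h.2, rfl⟩)⟩)
      invFun := fun p => ⟨w p.1 * p.2, H.mul_mem (hwH _) p.2.2.1⟩
      left_inv := fun h => Subtype.ext (mul_inv_cancel_left _ _)
      right_inv := fun p => by
        have h1 := key p.1 p.2 p.2.2.2
        refine Prod.ext (Subtype.ext h1) (Subtype.ext ?_)
        show (w ⟨w p.1 * (p.2 : G) * x * (w p.1 * (p.2 : G))⁻¹, _⟩)⁻¹ * (w p.1 * (p.2 : G)) = p.2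
        have h2 : (⟨w p.1 * (p.2 : G) * x * (w p.1 * (p.2 : G))⁻¹, w p.1 * p.2, H.mul_mem (hwH _) p.2.2.1, rfl⟩ :
            {d : G | ∃ h ∈ H, h * x * h⁻¹ = d}) = p.1 := Subtype.ext h1
        rw [h2, inv_mul_cancel_left] }
  rw [Nat.card_congr e, Nat.card_prod]
  rfl

theorem card_conj [Finite G] (x : G) :
    Nat.card G = Nat.card {d : G // IsConj x d} * Nat.card (centralizer ({x} : Set G)) := by
  have h := card_orbit x (⊤ : Subgroup G)
  rw [card_top] at h
  rw [h]
  congr 1
  · have : {d : G | ∃ h ∈ (⊤ : Subgroup G), h * x * h⁻¹ = d} = {d : G | IsConj x d} := by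
      ext d
      show (∃ h ∈ (⊤ : Subgroup G), h * x * h⁻¹ = d) ↔ IsConj x d
      rw [isConj_iff]
      exact ⟨fun ⟨h, _, h2⟩ => ⟨h, h2⟩, fun ⟨h, h2⟩ => ⟨h, mem_top h, h2⟩⟩
    rw [this]
    rfl
  · rw [top_inf_eq]

/-- **parity**: `|x^G| ≡ |x^G ∩ C(x)|` modulo 4 -/
theorem four_dvd [Finite G] (hG : ∀ (m : G →* ℤˣ) (g : G), m g = 1) {x : G} (hx : x * x = 1) :
    ∃ k, Nat.card {d : G // IsConj x d} = {d : G | IsConj x d ∧ d * x = x * d}.ncard + 4 * k := by
  classical
  let D := {d : G // IsConj x d}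
  have : Fintype D := Fintype.ofFinite _
  let f : G →* Perm D :=
    { toFun := fun g =>
        { toFun := fun d => ⟨g * d * g⁻¹, d.2.trans (isConj_iff.2 ⟨g, rfl⟩)⟩
          invFun := fun d => ⟨g⁻¹ * d * g, d.2.trans (isConj_iff.2 ⟨g⁻¹, by rw [inv_inv]⟩)⟩
          left_inv := fun d => Subtype.ext (by show g⁻¹ * (g * (d : G) * g⁻¹) * g = d; group)
          right_inv := fun d => Subtype.ext (by show g * (g⁻¹ * (d : G) * g) * g⁻¹ = d; group) }
      map_one' := by
        ext d
        show (1 : G) * d * (1 : G)⁻¹ = d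
        group
      map_mul' := fun g h => by
        ext d
        show (g * h) * d * (g * h)⁻¹ = g * (h * d * h⁻¹) * g⁻¹
        group }
  have hf : ∀ g (d : D), ((f g d : D) : G) = g * d * g⁻¹ := fun _ _ => rfl
  have h1 : Perm.sign (f x) = 1 := hG ((Perm.sign).comp f) x
  have h2 : f x ^ 2 = 1 := by rw [← map_pow, pow_two, hx, map_one]
  have h3 := Perm.sign_of_pow_two_eq_one h2
  rw [h1] at h3
  have h4 : Fintype.card (Function.fixedPoints (f x)) = {d : G | IsConj x d ∧ d * x = x * d}.ncard := by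
    rw [← Nat.card_eq_fintype_card, ← Nat.card_coe_set_eq]
    refine Nat.card_congr
      { toFun := fun d => ⟨(d : D), (d : D).2, ?_⟩
        invFun := fun d => ⟨⟨d, d.2.1⟩, ?_⟩
        left_inv := fun d => rfl
        right_inv := fun d => rfl }
    · have h5 : x * ((d : D) : G) * x⁻¹ = (d : D) := congrArg Subtype.val d.2
      exact (mul_inv_eq_iff_eq_mul.1 h5).symm
    · show f x _ = _
      apply Subtype.ext
      rw [hf]
      show x * (d : G) * x⁻¹ = d
      rw [← d.2.2, mul_inv_cancel_right]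
  have h5 : Even ((Fintype.card D - Fintype.card (Function.fixedPoints (f x))) / 2) := by
    by_contra h
    rw [Nat.not_even_iff_odd] at h
    rw [h.neg_one_pow] at h3
    exact absurd h3 (by decide)
  have h6 : 2 ∣ (f x).support.card := Perm.two_dvd_card_support h2
  have h7 : (f x).support.card = Fintype.card D - Fintype.card (Function.fixedPoints (f x)) := by
    have := Perm.card_fixedPoints (f x)
    have h8 : (f x).support.card ≤ Fintype.card D := Finset.card_le_univ _
    have h9 := Perm.sum_cycleType (f x)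
    omega
  have h8 : Fintype.card (Function.fixedPoints (f x)) ≤ Fintype.card D := by
    have := Perm.card_fixedPoints (f x)
    omega
  obtain ⟨k, hk⟩ := h5
  obtain ⟨l, hl⟩ := h6
  refine ⟨k, ?_⟩
  rw [← h4, Nat.card_eq_fintype_card]
  show Fintype.card D = _
  omega

end Cfsg.Agent.OddHalf.D6.Six.Parity
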