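import Mathlib

/-!
# The involutions of `S₆` (helper708)

`p` and `q` with `p² = q² = 1` are conjugate iff their supports have the same size; there are 15, 45, 15 involutions
with support of size 2, 4, 6.
-/

set_option autoImplicit false

namespace Cfsg.Agent.OddHalf.D6.Six

open Equiv

abbrev c1 : Perm (Fin 6) := swap 4 5
abbrev c2 : Perm (Fin 6) := swap 0 1 * swap 2 3
abbrev c3 : Perm (Fin 6) := swap 0 1 * swap 2 3 * swap 4 5

/-- the number of moved points -/
def sup (p : Perm (Fin 6)) : ℕ := (Finset.univ.filter fun i => p i ≠ i).card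

theorem sup_eq (p : Perm (Fin 6)) : sup p = p.support.card := rfl

theorem cycleType_of_sq {p : Perm (Fin 6)} (hp : p * p = 1) (h1 : p ≠ 1) :
    p.cycleType = Multiset.replicate (sup p / 2) 2 := by
  have ho : orderOf p = 2 := orderOf_eq_prime (by rw [pow_two, hp]) h1
  obtain ⟨n, hn⟩ := Perm.cycleType_prime_order (σ := p) (by rw [ho]; exact Nat.prime_two)
  rw [ho] at hn
  have h2 := Perm.sum_cycleType p
  rw [hn, Multiset.sum_replicate, smul_eq_mul] at h2
  rw [hn, sup_eq, ← h2, Nat.mul_div_cancel _ (by norm_num)]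

theorem conj_of_sup {p q : Perm (Fin 6)} (hp : p * p = 1) (hq : q * q = 1) (h : sup p = sup q) : IsConj p q := by
  by_cases h1 : p = 1
  · have h2 : sup q = 0 := by rw [← h, h1]; rfl
    rw [sup_eq, Finset.card_eq_zero, Perm.support_eq_empty_iff] at h2
    rw [h1, h2]
  by_cases h2 : q = 1
  · have h3 : sup p = 0 := by rw [h, h2]; rfl
    rw [sup_eq, Finset.card_eq_zero, Perm.support_eq_empty_iff] at h3
    exact absurd h3 h1
  rw [Perm.isConj_iff_cycleType_eq, cycleType_of_sq hp h1, cycleType_of_sq hq h2, h]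

theorem sup_cases {p : Perm (Fin 6)} (hp : p * p = 1) : sup p = 0 ∨ sup p = 2 ∨ sup p = 4 ∨ sup p = 6 := by
  by_cases h1 : p = 1
  · left; rw [h1]; rfl
  have ho : orderOf p = 2 := orderOf_eq_prime (by rw [pow_two, hp]) h1
  obtain ⟨n, hn⟩ := Perm.cycleType_prime_order (σ := p) (by rw [ho]; exact Nat.prime_two)
  rw [ho] at hn
  have h2 := Perm.sum_cycleType p
  rw [hn, Multiset.sum_replicate, smul_eq_mul, ← sup_eq] at h2
  have h3 : sup p ≤ 6 := by
    rw [sup_eq]
    exact (Finset.card_le_univ _).trans (by simp)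
  omega

theorem sup_eq_zero {p : Perm (Fin 6)} (h : sup p = 0) : p = 1 := by
  rwa [sup_eq, Finset.card_eq_zero, Perm.support_eq_empty_iff] at h

theorem card_two : (Finset.univ.filter fun p : Perm (Fin 6) => p * p = 1 ∧ sup p = 2).card = 15 := by
  decide +kernel

theorem card_four : (Finset.univ.filter fun p : Perm (Fin 6) => p * p = 1 ∧ sup p = 4).card = 45 := by
  decide +kernel

theorem card_six : (Finset.univ.filter fun p : Perm (Fin 6) => p * p = 1 ∧ sup p = 6).card = 15 := by
  decide +kernel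

theorem sup_c1 : sup c1 = 2 := by decide
theorem sup_c2 : sup c2 = 4 := by decide
theorem sup_c3 : sup c3 = 6 := by decide

open Classical in
/-- the size of a union of classes of elements with square 1 -/
theorem card_class (Q : Perm (Fin 6) → Prop) (h1 : ∀ p, Q p → p * p = 1) (h2 : ∀ p q, IsConj p q → Q p → Q q) :
    (Finset.univ.filter Q).card = (if Q 1 then 1 else 0) + (if Q c1 then 15 else 0) + (if Q c2 then 45 else 0) +
      (if Q c3 then 15 else 0) := by
  have key : ∀ (n : ℕ) (c : Perm (Fin 6)), c * c = 1 → sup c = n → ∀ p, (Q p ∧ sup p = n) ↔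
      ((p * p = 1 ∧ sup p = n) ∧ Q c) := by
    intro n c hc hn p
    constructor
    · rintro ⟨h3, h4⟩
      exact ⟨⟨h1 p h3, h4⟩, h2 p c (conj_of_sup (h1 p h3) hc (h4.trans hn.symm)) h3⟩
    · rintro ⟨⟨h3, h4⟩, h5⟩
      exact ⟨h2 c p (conj_of_sup hc h3 (hn.trans h4.symm)) h5, h4⟩
  have hf : ∀ (n : ℕ) (c : Perm (Fin 6)), c * c = 1 → sup c = n →
      (Finset.univ.filter fun p => Q p ∧ sup p = n).card =
        if Q c then (Finset.univ.filter fun p : Perm (Fin 6) => p * p = 1 ∧ sup p = n).card else 0 := by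
    intro n c hc hn
    by_cases h : Q c
    · rw [if_pos h]
      congr 1
      ext p
      rw [Finset.mem_filter, Finset.mem_filter, key n c hc hn p]
      exact ⟨fun h => ⟨h.1, h.2.1⟩, fun h' => ⟨h'.1, h'.2, h⟩⟩
    · rw [if_neg h, Finset.card_eq_zero, Finset.filter_eq_empty_iff]
      intro p _ hp
      exact h ((key n c hc hn p).1 hp).2
  have hpart : Finset.univ.filter Q = (((Finset.univ.filter fun p => Q p ∧ sup p = 0) ∪
      (Finset.univ.filter fun p => Q p ∧ sup p = 2)) ∪ (Finset.univ.filter fun p => Q p ∧ sup p = 4)) ∪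
      (Finset.univ.filter fun p => Q p ∧ sup p = 6) := by
    ext p
    simp only [Finset.mem_union, Finset.mem_filter, Finset.mem_univ, true_and]
    constructor
    · intro h
      rcases sup_cases (h1 p h) with h3 | h3 | h3 | h3
      · exact Or.inl (Or.inl (Or.inl ⟨h, h3⟩))
      · exact Or.inl (Or.inl (Or.inr ⟨h, h3⟩))
      · exact Or.inl (Or.inr ⟨h, h3⟩)
      · exact Or.inr ⟨h, h3⟩
    · rintro (((h | h) | h) | h) <;> exact h.1
  have hd : ∀ m n : ℕ, m ≠ n → Disjoint (Finset.univ.filter fun p => Q p ∧ sup p = m)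
      (Finset.univ.filter fun p => Q p ∧ sup p = n) := by
    intro m n hmn
    rw [Finset.disjoint_filter]
    rintro p _ ⟨-, h3⟩ ⟨-, h4⟩
    exact hmn (h3.symm.trans h4)
  have h0 : (Finset.univ.filter fun p : Perm (Fin 6) => p * p = 1 ∧ sup p = 0).card = 1 := by
    have : (Finset.univ.filter fun p : Perm (Fin 6) => p * p = 1 ∧ sup p = 0) = {1} := by
      ext p
      simp only [Finset.mem_filter, Finset.mem_univ, true_and, Finset.mem_singleton]
      constructor
      · rintro ⟨-, h⟩; exact sup_eq_zero h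
      · rintro rfl; exact ⟨one_mul 1, rfl⟩
    rw [this, Finset.card_singleton]
  rw [hpart, Finset.card_union_of_disjoint, Finset.card_union_of_disjoint, Finset.card_union_of_disjoint,
    hf 0 1 (one_mul 1) rfl, hf 2 c1 (by decide) sup_c1, hf 4 c2 (by decide) sup_c2, hf 6 c3 (by decide) sup_c3,
    card_two, card_four, card_six, h0]
  · exact hd 0 2 (by norm_num)
  · rw [Finset.disjoint_union_left]; exact ⟨hd 0 4 (by norm_num), hd 2 4 (by norm_num)⟩
  · rw [Finset.disjoint_union_left, Finset.disjoint_union_left]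
    exact ⟨⟨hd 0 6 (by norm_num), hd 2 6 (by norm_num)⟩, hd 4 6 (by norm_num)⟩

open Classical in
theorem ncard_class (Q : Perm (Fin 6) → Prop) (h1 : ∀ p, Q p → p * p = 1) (h2 : ∀ p q, IsConj p q → Q p → Q q) :
    {p | Q p}.ncard = (if Q 1 then 1 else 0) + (if Q c1 then 15 else 0) + (if Q c2 then 45 else 0) +
      (if Q c3 then 15 else 0) := by
  rw [← card_class Q h1 h2, ← Set.ncard_coe_finset]
  congr 1
  ext p
  simp

end Cfsg.Agent.OddHalf.D6.Six
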