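import Mathlib

/-!
# ODD D6, `q = 9`, `|Q| = 2`: an involution centralizer `⟨x⟩ × S₆` (helper708)

`SSix x φ`: `C_G(x) = ⟨x⟩ × φ(S₆)`. `Uni x φ`: moreover the conjugates of `x` in `C_G(x)` are `x` and all the `x φ(p)`,
`p` an involution.
-/

set_option autoImplicit false

namespace Cfsg.Agent.OddHalf.D6.Six

open Subgroup Equiv

/-- `C_G(x) = ⟨x⟩ × φ(S₆)` -/
structure SSix {G : Type*} [Group G] (x : G) (φ : Perm (Fin 6) →* G) : Prop where
  xx : x * x = 1
  inj : Function.Injective φ
  comm : ∀ p, x * φ p = φ p * x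
  nx : ∀ p, φ p ≠ x
  cx : ∀ g, g * x = x * g → ∃ p, g = φ p ∨ g = x * φ p

/-- the uniform pattern: `x^G ∩ C_G(x) = {x} ∪ {x φ(p) : p an involution}` -/
structure Uni {G : Type*} [Group G] (x : G) (φ : Perm (Fin 6) →* G) : Prop extends SSix x φ where
  uni : ∀ p, p * p = 1 → p ≠ 1 → ∃ g, g * x * g⁻¹ = x * φ p
  disj : ∀ p g, g * x * g⁻¹ ≠ φ p

namespace SSix

variable {G : Type*} [Group G] {x : G} {φ : Perm (Fin 6) →* G}

theorem x1 (S : SSix x φ) : x ≠ 1 := fun h => S.nx 1 (by rw [map_one, h])

theorem comm' (S : SSix x φ) (p : Perm (Fin 6)) : φ p * x = x * φ p := (S.comm p).symm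

theorem xinv (S : SSix x φ) : x⁻¹ = x := inv_eq_of_mul_eq_one_left S.xx

theorem ne (S : SSix x φ) (p q : Perm (Fin 6)) : φ p ≠ x * φ q := by
  intro e
  apply S.nx (p * q⁻¹)
  rw [map_mul, map_inv, e, mul_assoc, mul_inv_cancel, mul_one]

theorem mul_inj (S : SSix x φ) {p q : Perm (Fin 6)} (h : x * φ p = x * φ q) : p = q :=
  S.inj (mul_left_cancel h)

/-- the product of `x^i φ p` -/
theorem conj_mul (S : SSix x φ) (p q : Perm (Fin 6)) : φ p * (x * φ q) * (φ p)⁻¹ = x * φ (p * q * p⁻¹) := by
  rw [map_mul, map_mul, map_inv]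
  calc φ p * (x * φ q) * (φ p)⁻¹ = (φ p * x) * φ q * (φ p)⁻¹ := by group
    _ = x * (φ p * φ q * (φ p)⁻¹) := by rw [S.comm']; group

/-- the order of the centralizer -/
theorem card [Finite G] (S : SSix x φ) : Nat.card (centralizer ({x} : Set G)) = 1440 := by
  classical
  let e : Bool × Perm (Fin 6) ≃ centralizer ({x} : Set G) := Equiv.ofBijective
    (fun b => ⟨(if b.1 then x else 1) * φ b.2, by
      rw [mem_centralizer_singleton_iff]
      split_ifs
      · rw [mul_assoc, S.comm', ← mul_assoc]
      · rw [one_mul, S.comm']⟩) (by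
    constructor
    · rintro ⟨b, p⟩ ⟨c, q⟩ h
      have h1 : (if b then x else 1) * φ p = (if c then x else 1) * φ q := congrArg Subtype.val h
      cases b <;> cases c
      · simp only [Bool.false_eq_true, if_false, one_mul] at h1
        rw [S.inj h1]
      · simp only [Bool.false_eq_true, if_false, one_mul, if_true] at h1
        exact absurd h1 (S.ne p q)
      · simp only [Bool.false_eq_true, if_false, one_mul, if_true] at h1
        exact absurd h1.symm (S.ne q p)
      · simp only [if_true] at h1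
        rw [S.mul_inj h1]
    · rintro ⟨g, hg⟩
      obtain ⟨p, hp | hp⟩ := S.cx g (mem_centralizer_singleton_iff.1 hg)
      · exact ⟨(false, p), Subtype.ext (by simp [hp])⟩
      · exact ⟨(true, p), Subtype.ext (by simp [hp])⟩)
  rw [← Nat.card_congr e, Nat.card_prod, Nat.card_perm]
  simp [Nat.factorial]

/-- an element of `⟨x⟩ × φ(S₆)` with its two coordinates -/
noncomputable def hom (S : SSix x φ) : ℤˣ × Perm (Fin 6) →* G where
  toFun b := (if b.1 = 1 then 1 else x) * φ b.2
  map_one' := by simp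
  map_mul' := by
    rintro ⟨e, a⟩ ⟨e', b⟩
    have h1 : (-1 : ℤˣ) ≠ 1 := by decide
    have h2 : (-1 : ℤˣ) * -1 = 1 := by decide
    rcases Int.units_eq_one_or e with he | he <;> rcases Int.units_eq_one_or e' with he' | he'
    · simp [he, he']
    · simp only [he, he', Prod.mk_mul_mk, one_mul, if_neg h1, if_true, map_mul]
      rw [← mul_assoc, S.comm a, mul_assoc]
    · simp only [he, he', Prod.mk_mul_mk, one_mul, mul_one, if_neg h1, if_true, map_mul, mul_assoc]
    · simp only [he, he', Prod.mk_mul_mk, one_mul, if_neg h1, if_true, map_mul, h2]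
      calc φ a * φ b = (x * x) * φ a * φ b := by rw [S.xx, one_mul]
        _ = x * (x * φ a) * φ b := by group
        _ = x * (φ a * x) * φ b := by rw [S.comm a]
        _ = x * φ a * (x * φ b) := by group

theorem hom_apply (S : SSix x φ) (e : ℤˣ) (p : Perm (Fin 6)) :
    S.hom (e, p) = (if e = 1 then 1 else x) * φ p := rfl

theorem hom_inj (S : SSix x φ) : Function.Injective S.hom := by
  rw [injective_iff_map_eq_one]
  rintro ⟨e, p⟩ h
  rw [hom_apply] at h
  split_ifs at h with he
  · rw [one_mul] at h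
    rw [S.inj (h.trans (map_one φ).symm), he]; rfl
  · exfalso
    apply S.nx p⁻¹
    rw [map_inv]
    exact (eq_inv_of_mul_eq_one_left h).symm

theorem hom_range (S : SSix x φ) : S.hom.range = centralizer ({x} : Set G) := by
  ext g
  rw [mem_centralizer_singleton_iff]
  constructor
  · rintro ⟨⟨e, p⟩, rfl⟩
    rw [hom_apply]
    split_ifs
    · rw [one_mul, S.comm']
    · rw [mul_assoc, S.comm', ← mul_assoc]
  · intro hg
    obtain ⟨p, hp | hp⟩ := S.cx g hg
    · exact ⟨(1, p), by rw [hom_apply]; simp [hp]⟩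
    · exact ⟨(-1, p), by rw [hom_apply, if_neg (by decide), hp]⟩

/-- the two coordinates on `C_G(x)` -/
theorem exists_coord (S : SSix x φ) : ∃ c : centralizer ({x} : Set G) →* ℤˣ × Perm (Fin 6),
    (∀ (p : Perm (Fin 6)) (h : φ p ∈ centralizer ({x} : Set G)), c ⟨φ p, h⟩ = (1, p)) ∧
    ∀ (p : Perm (Fin 6)) (h : x * φ p ∈ centralizer ({x} : Set G)), c ⟨x * φ p, h⟩ = (-1, p) := by
  let e := MonoidHom.ofInjective S.hom_inj
  have hle : centralizer ({x} : Set G) ≤ S.hom.range := S.hom_range.ge
  refine ⟨e.symm.toMonoidHom.comp (Subgroup.inclusion hle), ?_, ?_⟩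
  · intro p h
    show e.symm _ = _
    rw [MulEquiv.symm_apply_eq]
    apply Subtype.ext
    show φ p = S.hom (1, p)
    rw [hom_apply]; simp
  · intro p h
    show e.symm _ = _
    rw [MulEquiv.symm_apply_eq]
    apply Subtype.ext
    show x * φ p = S.hom (-1, p)
    rw [hom_apply, if_neg (by decide)]

/-- the twisted complement -/
def twist (x : G) (h : x * x = 1) (φ : Perm (Fin 6) →* G) (hc : ∀ p, x * φ p = φ p * x) :
    Perm (Fin 6) →* G where
  toFun p := (if Perm.sign p = 1 then 1 else x) * φ p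
  map_one' := by simp
  map_mul' := by
    intro a b
    have hne : (-1 : ℤˣ) ≠ 1 := by decide
    have hmm : (-1 : ℤˣ) * -1 = 1 := by decide
    rcases Int.units_eq_one_or (Perm.sign a) with ha | ha <;>
    rcases Int.units_eq_one_or (Perm.sign b) with hb | hb
    · simp [ha, hb]
    · simp only [map_mul, ha, hb, if_true, one_mul, if_neg hne]
      rw [← mul_assoc, hc a, mul_assoc]
    · simp only [map_mul, ha, hb, if_true, mul_one, if_neg hne, mul_assoc, one_mul]
    · simp only [map_mul, ha, hb, hmm, if_true, if_neg hne, one_mul]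
      calc φ a * φ b = (x * x) * φ a * φ b := by rw [h, one_mul]
        _ = x * (x * φ a) * φ b := by group
        _ = x * (φ a * x) * φ b := by rw [hc a]
        _ = x * φ a * (x * φ b) := by group

theorem twist_apply (h : x * x = 1) (hc : ∀ p, x * φ p = φ p * x) (p : Perm (Fin 6)) :
    twist x h φ hc p = (if Perm.sign p = 1 then 1 else x) * φ p := rfl

theorem twist_of_even (h : x * x = 1) (hc : ∀ p, x * φ p = φ p * x) {p : Perm (Fin 6)} (hp : Perm.sign p = 1) :
    twist x h φ hc p = φ p := by rw [twist_apply, if_pos hp, one_mul]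

theorem twist_of_odd (h : x * x = 1) (hc : ∀ p, x * φ p = φ p * x) {p : Perm (Fin 6)} (hp : Perm.sign p = -1) :
    twist x h φ hc p = x * φ p := by
  rw [twist_apply, if_neg (by rw [hp]; decide)]

/-- the twisted complement is again a complement -/
theorem spl_twist (S : SSix x φ) : SSix x (twist x S.xx φ S.comm) where
  xx := S.xx
  inj := by
    rw [injective_iff_map_eq_one]
    intro a ha
    rw [twist_apply] at ha
    split_ifs at ha with hs
    · rw [one_mul] at ha
      exact S.inj (ha.trans (map_one φ).symm)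
    · exfalso
      apply S.nx a⁻¹
      rw [map_inv, ← mul_eq_one_iff_eq_inv.1 ha]
  comm := by
    intro a
    rw [twist_apply]
    split_ifs
    · rw [one_mul, S.comm]
    · rw [mul_assoc, ← S.comm]
  cx := by
    intro g hg
    obtain ⟨a, ha | ha⟩ := S.cx g hg
    · by_cases hs : Perm.sign a = 1
      · refine ⟨a, Or.inl ?_⟩; rw [twist_apply, if_pos hs, one_mul, ha]
      · refine ⟨a, Or.inr ?_⟩; rw [twist_apply, if_neg hs, ← mul_assoc, S.xx, one_mul, ha]
    · by_cases hs : Perm.sign a = 1
      · refine ⟨a, Or.inr ?_⟩; rw [twist_apply, if_pos hs, one_mul, ha]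
      · refine ⟨a, Or.inl ?_⟩; rw [twist_apply, if_neg hs, ha]
  nx := by
    intro a e
    rw [twist_apply] at e
    split_ifs at e with hs
    · rw [one_mul] at e; exact S.nx a e
    · have h1 : φ a = 1 := mul_eq_left.1 e
      have h2 := S.inj (h1.trans (map_one φ).symm)
      rw [h2] at hs
      exact hs (by simp)

end SSix

end Cfsg.Agent.OddHalf.D6.Six
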