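import Cfsg.Agent.OddHalf.D6.Six.SylowSix

/-!
# ODD D6, `C_G(x) = ⟨x⟩ × S₆`: reduction to the uniform pattern (helper708)

`reduce`: `G` finite without homomorphism onto `{±1}`, of sectional 2-rank at least 5, `C_G(x) = ⟨x⟩ × φ(S₆)`. Then
for `φ` or its twist the conjugates of `x` in `C_G(x)` are exactly `x` and the `x φ(p)`, `p` an involution.
-/

set_option autoImplicit false

namespace Cfsg.Agent.OddHalf.D6.Six

open Subgroup Equiv

/-- two commuting double transpositions whose product is one can be swapped -/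
theorem swap_c2 : ∀ k : Perm (Fin 6), k * k = 1 ∧ k * c2 = c2 * k ∧ sup k = 4 ∧ sup (c2 * k) = 4 →
    ∃ p : Perm (Fin 6), p * c2 = k * p ∧ p * k = c2 * p := by decide +kernel

theorem swap_kk {k l : Perm (Fin 6)} (hk : k * k = 1) (hl : l * l = 1) (h : k * l = l * k) (sk : sup k = 4)
    (sl : sup l = 4) (skl : sup (k * l) = 4) : ∃ p : Perm (Fin 6), p * k * p⁻¹ = l ∧ p * l * p⁻¹ = k := by
  have hsup : ∀ r q : Perm (Fin 6), q * q = 1 → sup (r * q * r⁻¹) = sup q := by
    intro r q _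
    rw [sup_eq, sup_eq, Perm.card_support_conj]
  obtain ⟨r, hr⟩ := isConj_iff.1 (conj_of_sup hk (show c2 * c2 = 1 by decide) (sk.trans sup_c2.symm))
  obtain ⟨p, hp1, hp2⟩ := swap_c2 (r * l * r⁻¹) ⟨by
      calc r * l * r⁻¹ * (r * l * r⁻¹) = r * (l * l) * r⁻¹ := by group
        _ = 1 := by rw [hl]; group, by
      rw [← hr]
      calc r * l * r⁻¹ * (r * k * r⁻¹) = r * (l * k) * r⁻¹ := by group
        _ = r * (k * l) * r⁻¹ := by rw [h]
        _ = r * k * r⁻¹ * (r * l * r⁻¹) := by group, by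
      rw [hsup r l hl]; exact sl, by
      have h1 : c2 * (r * l * r⁻¹) = r * (k * l) * r⁻¹ := by rw [← hr]; group
      rw [h1, hsup r _ (by
        calc k * l * (k * l) = k * (l * k) * l := by group
          _ = k * (k * l) * l := by rw [h]
          _ = (k * k) * (l * l) := by group
          _ = 1 := by rw [hk, hl, one_mul])]
      exact skl⟩
  refine ⟨r⁻¹ * p * r, ?_, ?_⟩
  · have h2 : p * c2 * p⁻¹ = r * l * r⁻¹ := by rw [hp1]; group
    calc r⁻¹ * p * r * k * (r⁻¹ * p * r)⁻¹ = r⁻¹ * (p * (r * k * r⁻¹) * p⁻¹) * r := by group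
      _ = l := by rw [hr, h2]; group
  · have h2 : p * (r * l * r⁻¹) * p⁻¹ = c2 := by rw [hp2]; group
    calc r⁻¹ * p * r * l * (r⁻¹ * p * r)⁻¹ = r⁻¹ * (p * (r * l * r⁻¹) * p⁻¹) * r := by group
      _ = r⁻¹ * c2 * r := by rw [h2]
      _ = k := by rw [← hr]; group

/-- the four-group `{1, c₂, e₀, c₂e₀}` -/
def V4 (v : Perm (Fin 6)) : Prop := v = 1 ∨ v = c2 ∨ v = e0 ∨ v = c2 * e0

instance : DecidablePred V4 := fun p => by unfold V4; infer_instance

theorem V4_mul {v w : Perm (Fin 6)} (hv : V4 v) (hw : V4 w) : V4 (v * w) := by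
  rcases hv with rfl | rfl | rfl | rfl <;> rcases hw with rfl | rfl | rfl | rfl <;> decide

theorem V4_sq {v : Perm (Fin 6)} (hv : V4 v) : v * v = 1 := by
  rcases hv with rfl | rfl | rfl | rfl <;> decide

theorem V4_comm {v w : Perm (Fin 6)} (hv : V4 v) (hw : V4 w) : v * w = w * v := by
  rcases hv with rfl | rfl | rfl | rfl <;> rcases hw with rfl | rfl | rfl | rfl <;> decide

theorem V4_sup {v : Perm (Fin 6)} (hv : V4 v) (h : v ≠ 1) : sup v = 4 := by
  rcases hv with rfl | rfl | rfl | rfl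
  · exact absurd rfl h
  · decide
  · decide
  · decide

theorem V4_third {v : Perm (Fin 6)} (hv : V4 v) (h : v ≠ 1) : ∃ w, V4 w ∧ w ≠ 1 ∧ w ≠ v := by
  rcases hv with rfl | rfl | rfl | rfl
  · exact absurd rfl h
  · exact ⟨e0, by decide, by decide, by decide⟩
  · exact ⟨c2, by decide, by decide, by decide⟩
  · exact ⟨c2, by decide, by decide, by decide⟩

theorem V4_gen {v w u : Perm (Fin 6)} (hv : V4 v) (hw : V4 w) (hu : V4 u) (h1 : v ≠ 1) (h2 : w ≠ 1) (h3 : w ≠ v) :
    u = 1 ∨ u = v ∨ u = w ∨ u = v * w := by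
  rcases hv with rfl | rfl | rfl | rfl <;> rcases hw with rfl | rfl | rfl | rfl <;>
    rcases hu with rfl | rfl | rfl | rfl <;>
    first
    | exact absurd rfl h1
    | exact absurd rfl h2
    | exact absurd rfl h3
    | decide

theorem V4_PP : ∀ p : Perm (Fin 6), PP p → V4 (p * e0 * p⁻¹) := by decide +kernel

theorem card_V4 : (Finset.univ.filter fun p : Perm (Fin 6) => V4 p).card = 4 := by decide +kernel

/-- the elements of `⟨x⟩ × V₄` -/
def EE {G : Type*} [Group G] (x : G) (φ : Perm (Fin 6) →* G) : Set G :=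
  {g | ∃ v, V4 v ∧ (g = φ v ∨ g = x * φ v)}

/-- the elements normalising `⟨x⟩ × V₄` -/
def HH {G : Type*} [Group G] [Finite G] (x : G) (φ : Perm (Fin 6) →* G) : Subgroup G where
  carrier := {h | ∀ g ∈ EE x φ, h * g * h⁻¹ ∈ EE x φ}
  one_mem' := fun g hg => by simpa using hg
  mul_mem' := fun {a b} ha hb g hg => by
    have := ha _ (hb g hg)
    rwa [show a * (b * g * b⁻¹) * a⁻¹ = a * b * g * (a * b)⁻¹ by group] at this
  inv_mem' := fun {a} ha => by
    have h1 : ∀ n : ℕ, ∀ g ∈ EE x φ, a ^ n * g * (a ^ n)⁻¹ ∈ EE x φ := by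
      intro n
      induction n with
      | zero => intro g hg; simpa using hg
      | succ n ih =>
        intro g hg
        have := ih _ (ha g hg)
        rwa [show a ^ n * (a * g * a⁻¹) * (a ^ n)⁻¹ = a ^ (n + 1) * g * (a ^ (n + 1))⁻¹ by
          rw [pow_succ]; group] at this
    have h2 : a⁻¹ = a ^ (orderOf a - 1) := by
      rw [inv_eq_iff_mul_eq_one, ← pow_succ', Nat.sub_add_cancel (orderOf_pos a), pow_orderOf_eq_one]
    rw [h2]
    exact h1 _

namespace SSix

variable {G : Type*} [Group G] {x : G} {φ : Perm (Fin 6) →* G}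

/-- the involutions of `C(x)` conjugate to `x` when only `x φ(c₂)` occurs -/
theorem caseA_mem (S : SSix x φ) (h1 : ¬ IsConj x (φ c1)) (h2 : ¬ IsConj x (x * φ c1)) (h3 : ¬ IsConj x (φ c3))
    (h5 : ¬ IsConj x (x * φ c3)) {d : G} (hd : IsConj x d) (hdx : d * x = x * d) (hne : d ≠ x) :
    ∃ p, d = x * φ p ∧ p * p = 1 ∧ sup p = 4 := by
  obtain ⟨p, rfl | rfl⟩ := S.cx d hdx
  · exfalso
    have hp := S.sq_of_conj hd
    rcases sup_cases hp with h | h | h | h
    · rw [sup_eq_zero h, map_one] at hd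
      exact S.x1 (isConj_one_left.1 hd)
    · exact h1 (S.conj_class (conj_of_sup hp (by decide) (h.trans sup_c1.symm)) hd)
    · exact S.not_c2 (S.conj_class (conj_of_sup hp (by decide) (h.trans sup_c2.symm)) hd)
    · exact h3 (S.conj_class (conj_of_sup hp (by decide) (h.trans sup_c3.symm)) hd)
  · have hp := S.sq_of_conj' hd
    refine ⟨p, rfl, hp, ?_⟩
    rcases sup_cases hp with h | h | h | h
    · rw [sup_eq_zero h, map_one, mul_one] at hne
      exact absurd rfl hne
    · exact absurd (S.conj_class' (conj_of_sup hp (by decide) (h.trans sup_c1.symm)) hd) h2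
    · exact h
    · exact absurd (S.conj_class' (conj_of_sup hp (by decide) (h.trans sup_c3.symm)) hd) h5

/-- **case (A)**: only `x φ(c₂)` -/
theorem caseA [Finite G] (S : SSix x φ) (h128 : ¬ 128 ∣ Nat.card G) (h1 : ¬ IsConj x (φ c1))
    (h2 : ¬ IsConj x (x * φ c1)) (h3 : ¬ IsConj x (φ c3)) (h4 : IsConj x (x * φ c2))
    (h5 : ¬ IsConj x (x * φ c3)) : False := by
  have hV : ∀ v, V4 v → IsConj x (x * φ v) := by
    intro v hv
    by_cases hv1 : v = 1
    · rw [hv1, map_one, mul_one]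
    · exact S.conj_class' (conj_of_sup (by decide) (V4_sq hv) (sup_c2.trans (V4_sup hv hv1).symm)) h4
  have hnV : ∀ v, V4 v → ¬ IsConj x (φ v) := by
    intro v hv
    by_cases hv1 : v = 1
    · rw [hv1, map_one]
      exact fun h => S.x1 (isConj_one_left.1 h)
    · exact fun h => S.not_c2 (S.conj_class (conj_of_sup (V4_sq hv) (by decide) ((V4_sup hv hv1).trans sup_c2.symm)) h)
  -- the orbit of `x`
  have horb : {d : G | ∃ h ∈ HH x φ, h * x * h⁻¹ = d} = (fun v => x * φ v) '' {v | V4 v} := by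
    ext d
    constructor
    · rintro ⟨h, hh, rfl⟩
      obtain ⟨v, hv, h6 | h6⟩ := hh x ⟨1, Or.inl rfl, Or.inr (by rw [map_one, mul_one])⟩
      · exact absurd (h6 ▸ isConj_iff.2 ⟨h, rfl⟩) (hnV v hv)
      · exact ⟨v, hv, h6.symm⟩
    · rintro ⟨v, hv, rfl⟩
      by_cases hv1 : v = 1
      · refine ⟨1, one_mem _, ?_⟩
        show 1 * x * 1⁻¹ = x * φ v
        rw [hv1, map_one]; group
      obtain ⟨w, hw, hw1, hwv⟩ := V4_third hv hv1
      obtain ⟨g, hg⟩ := isConj_iff.1 (hV w hw)
      -- `y = x^g`, `y' = (x v)^g`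
      have c0 : ∀ {a b : G}, a * b = b * a → (g⁻¹ * a * g) * (g⁻¹ * b * g) = (g⁻¹ * b * g) * (g⁻¹ * a * g) := by
        intro a b hab
        calc (g⁻¹ * a * g) * (g⁻¹ * b * g) = g⁻¹ * (a * b) * g := by group
          _ = g⁻¹ * (b * a) * g := by rw [hab]
          _ = (g⁻¹ * b * g) * (g⁻¹ * a * g) := by group
      have hgx : g⁻¹ * (x * φ w) * g = x := by rw [← hg]; group
      have comm2 : ∀ {p q : Perm (Fin 6)}, p * q = q * p → x * φ p * (x * φ q) = x * φ q * (x * φ p) := by
        intro p q h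
        calc x * φ p * (x * φ q) = x * (φ p * x) * φ q := by group
          _ = x * x * (φ p * φ q) := by rw [S.comm']; group
          _ = x * x * (φ q * φ p) := by rw [← map_mul, h, map_mul]
          _ = x * (x * φ q) * φ p := by group
          _ = x * (φ q * x) * φ p := by rw [S.comm]
          _ = x * φ q * (x * φ p) := by group
      have hx' : x = x * φ 1 := by rw [map_one, mul_one]
      have m : ∀ u, V4 u → u ≠ w → ∃ k, g⁻¹ * (x * φ u) * g = x * φ k ∧ k * k = 1 ∧ sup k = 4 := by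
        intro u hu huw
        apply S.caseA_mem h1 h2 h3 h5
        · exact (hV u hu).trans (isConj_iff.2 ⟨g⁻¹, by group⟩)
        · have h6 := c0 (comm2 (V4_comm hu hw))
          rw [hgx] at h6
          exact h6
        · intro h6
          exact huw (S.mul_inj (mul_left_cancel (mul_right_cancel (h6.trans hgx.symm))))
      obtain ⟨k1, e1, q1, s1⟩ := m 1 (Or.inl rfl) (Ne.symm hw1)
      obtain ⟨k2, e2, q2, s2⟩ := m v hv (Ne.symm hwv)
      have hvw1 : v * w ≠ w := by
        intro h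
        exact hv1 (mul_eq_right.1 h)
      obtain ⟨k3, e3, q3, s3⟩ := m (v * w) (V4_mul hv hw) hvw1
      -- `k3 = k1 k2`
      have hk12 : k1 * k2 = k2 * k1 := by
        apply S.inj
        have h6 := c0 (comm2 (p := 1) (q := v) (by rw [one_mul, mul_one]))
        rw [e1, e2] at h6
        have h7 : x * (φ k1 * x) * φ k2 = x * (φ k2 * x) * φ k1 := by
          calc x * (φ k1 * x) * φ k2 = x * φ k1 * (x * φ k2) := by group
            _ = x * φ k2 * (x * φ k1) := h6
            _ = x * (φ k2 * x) * φ k1 := by group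
        rw [S.comm', S.comm', ← mul_assoc, ← mul_assoc, S.xx, one_mul, one_mul] at h7
        rw [map_mul, map_mul, h7]
      have hk3 : k3 = k1 * k2 := by
        apply S.inj
        -- `(x)(x v)(x w) = x v w`
        have h6 : x * φ (v * w) = x * φ 1 * (x * φ v) * (x * φ w) := by
          rw [map_one, mul_one, ← mul_assoc x x, S.xx, one_mul, ← mul_assoc, ← S.comm v, mul_assoc, map_mul]
        have h7 : g⁻¹ * (x * φ (v * w)) * g = (g⁻¹ * (x * φ 1) * g) * (g⁻¹ * (x * φ v) * g) *
            (g⁻¹ * (x * φ w) * g) := by rw [h6]; group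
        rw [e1, e2, e3, hgx] at h7
        have h8 : x * φ k3 = x * φ (k1 * k2) := by
          rw [h7, map_mul]
          calc x * φ k1 * (x * φ k2) * x = x * φ k1 * (x * (φ k2 * x)) := by group
            _ = x * φ k1 * (x * (x * φ k2)) := by rw [S.comm']
            _ = x * φ k1 * (x * x) * φ k2 := by group
            _ = x * (φ k1 * φ k2) := by rw [S.xx]; group
        exact mul_left_cancel h8
      obtain ⟨p, hp1, hp2⟩ := swap_kk q1 q2 hk12 s1 s2 (by rw [← hk3]; exact s3)
      have t1 : g * φ p * g⁻¹ * (x * φ 1) * (g * φ p * g⁻¹)⁻¹ = x * φ v := by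
        calc g * φ p * g⁻¹ * (x * φ 1) * (g * φ p * g⁻¹)⁻¹ = g * (φ p * (g⁻¹ * (x * φ 1) * g) * (φ p)⁻¹) * g⁻¹ := by
              group
          _ = g * (x * φ k2) * g⁻¹ := by rw [e1, S.conj_mul, hp1]
          _ = x * φ v := by rw [← e2]; group
      have t2 : g * φ p * g⁻¹ * (x * φ v) * (g * φ p * g⁻¹)⁻¹ = x * φ 1 := by
        calc g * φ p * g⁻¹ * (x * φ v) * (g * φ p * g⁻¹)⁻¹ = g * (φ p * (g⁻¹ * (x * φ v) * g) * (φ p)⁻¹) * g⁻¹ := by
              group
          _ = g * (x * φ k1) * g⁻¹ := by rw [e2, S.conj_mul, hp2]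
          _ = x * φ 1 := by rw [← e1]; group
      have t3 : g * φ p * g⁻¹ * (x * φ w) * (g * φ p * g⁻¹)⁻¹ = x * φ w := by
        calc g * φ p * g⁻¹ * (x * φ w) * (g * φ p * g⁻¹)⁻¹ = g * (φ p * (g⁻¹ * (x * φ w) * g) * (φ p)⁻¹) * g⁻¹ := by
              group
          _ = g * x * g⁻¹ := by rw [hgx, ← S.comm, mul_inv_cancel_right]
          _ = x * φ w := hg
      refine ⟨g * φ p * g⁻¹, ?_, by
        show g * φ p * g⁻¹ * x * (g * φ p * g⁻¹)⁻¹ = x * φ v
        rw [map_one, mul_one] at t1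
        exact t1⟩
      -- it normalises `⟨x⟩ × V₄`
      set h := g * φ p * g⁻¹ with hh
      have hm : ∀ a b : G, h * (a * b) * h⁻¹ = (h * a * h⁻¹) * (h * b * h⁻¹) := fun a b => by group
      have xv : ∀ u, φ u = (x * φ 1) * (x * φ u) := by
        intro u
        rw [map_one, mul_one, ← mul_assoc, S.xx, one_mul]
      have hxx : ∀ u u', (x * φ u) * (x * φ u') = φ (u * u') := by
        intro u u'
        calc (x * φ u) * (x * φ u') = x * (φ u * x) * φ u' := by group
          _ = x * (x * φ u) * φ u' := by rw [S.comm']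
          _ = (x * x) * (φ u * φ u') := by group
          _ = φ (u * u') := by rw [S.xx, one_mul, map_mul]
      have n1 : h * φ v * h⁻¹ = φ v := by
        rw [xv v, hm, t1, t2, hxx, hxx, mul_one, one_mul]
      have n2 : h * φ w * h⁻¹ = φ (v * w) := by
        rw [xv w, hm, t1, t3, hxx]
      have hu : ∀ u, V4 u → ∃ u', V4 u' ∧ h * φ u * h⁻¹ = φ u' := by
        intro u hu
        rcases V4_gen hv hw hu hv1 hw1 hwv with rfl | rfl | rfl | rfl
        · exact ⟨1, Or.inl rfl, by rw [map_one]; group⟩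
        · exact ⟨_, hv, n1⟩
        · exact ⟨_, V4_mul hv hw, n2⟩
        · exact ⟨_, V4_mul hv (V4_mul hv hw), by rw [map_mul, hm, n1, n2, map_mul φ v (v * w)]⟩
      rintro y ⟨u, hu', rfl | rfl⟩
      · obtain ⟨u', hu1, hu2⟩ := hu u hu'
        exact ⟨u', hu1, Or.inl hu2⟩
      · obtain ⟨u', hu1, hu2⟩ := hu u hu'
        refine ⟨v * u', V4_mul hv hu1, Or.inr ?_⟩
        have t1' : h * x * h⁻¹ = x * φ v := by rw [map_one, mul_one] at t1; exact t1
        rw [hm, t1', hu2, mul_assoc, ← map_mul]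
  have hcard := Parity.card_orbit x (HH x φ)
  rw [horb, Set.ncard_image_of_injective _ (fun p q h => S.mul_inj h)] at hcard
  have hV4 : {v | V4 v}.ncard = 4 := by
    rw [← card_V4, ← Set.ncard_coe_finset]
    congr 1
    ext p
    simp
  have hTT : TT x φ ≤ HH x φ ⊓ centralizer {x} := by
    intro t ht
    refine ⟨?_, mem_centralizer_singleton_iff.2 (mem_TT.1 ht).1⟩
    obtain ⟨p, hp, htp⟩ := S.mem_TT_iff.1 ht
    have hpc : p * c2 * p⁻¹ = c2 := by rw [hp.2, mul_inv_cancel_right]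
    have key : ∀ v, V4 v → V4 (p * v * p⁻¹) := by
      intro v hv
      rcases hv with rfl | rfl | rfl | rfl
      · left; group
      · right; left; exact hpc
      · exact V4_PP p hp
      · rw [show p * (c2 * e0) * p⁻¹ = (p * c2 * p⁻¹) * (p * e0 * p⁻¹) by group, hpc]
        exact V4_mul (Or.inr (Or.inl rfl)) (V4_PP p hp)
    have hconj : ∀ v, t * φ v * t⁻¹ = φ (p * v * p⁻¹) := by
      intro v
      rcases htp with rfl | rfl
      · rw [map_mul, map_mul, map_inv]
      · calc x * φ p * φ v * (x * φ p)⁻¹ = x * (φ p * φ v * (φ p)⁻¹) * x⁻¹ := by group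
          _ = x * φ (p * v * p⁻¹) * x⁻¹ := by rw [map_mul, map_mul, map_inv]
          _ = φ (p * v * p⁻¹) := by rw [S.comm]; group
    have htx : t * x * t⁻¹ = x := by rw [(mem_TT.1 ht).1, mul_inv_cancel_right]
    rintro g ⟨v, hv, rfl | rfl⟩
    · exact ⟨_, key v hv, Or.inl (hconj v)⟩
    · refine ⟨_, key v hv, Or.inr ?_⟩
      calc t * (x * φ v) * t⁻¹ = (t * x * t⁻¹) * (t * φ v * t⁻¹) := by group
        _ = x * φ (p * v * p⁻¹) := by rw [htx, hconj]
  have hd := card_dvd_of_le hTT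
  rw [S.card_TT] at hd
  obtain ⟨m, hm⟩ := hd
  apply h128
  have h6 : Nat.card (HH x φ) ∣ Nat.card G := card_subgroup_dvd_card _
  rw [hcard, hV4, hm] at h6
  exact (Dvd.intro m (by ring)).trans h6

/-- the uniform pattern from the indicators -/
theorem uni_of (S : SSix x φ) (h1 : ¬ IsConj x (φ c1)) (h2 : IsConj x (x * φ c1)) (h3 : ¬ IsConj x (φ c3))
    (h4 : IsConj x (x * φ c2)) (h5 : IsConj x (x * φ c3)) : Uni x φ where
  toSSix := S
  uni := by
    intro p hp hp1
    apply isConj_iff.1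
    rcases sup_cases hp with h | h | h | h
    · exact absurd (sup_eq_zero h) hp1
    · exact S.conj_class' (conj_of_sup (by decide) hp (sup_c1.trans h.symm)) h2
    · exact S.conj_class' (conj_of_sup (by decide) hp (sup_c2.trans h.symm)) h4
    · exact S.conj_class' (conj_of_sup (by decide) hp (sup_c3.trans h.symm)) h5
  disj := by
    intro p g hg
    have hd : IsConj x (φ p) := isConj_iff.2 ⟨g, hg⟩
    have hp := S.sq_of_conj hd
    rcases sup_cases hp with h | h | h | h
    · rw [sup_eq_zero h, map_one] at hd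
      exact S.x1 (isConj_one_left.1 hd)
    · exact h1 (S.conj_class (conj_of_sup hp (by decide) (h.trans sup_c1.symm)) hd)
    · exact S.not_c2 (S.conj_class (conj_of_sup hp (by decide) (h.trans sup_c2.symm)) hd)
    · exact h3 (S.conj_class (conj_of_sup hp (by decide) (h.trans sup_c3.symm)) hd)

/-- **reduction to the uniform pattern** -/
theorem reduce [Finite G] (hG : ∀ (m : G →* ℤˣ) (g : G), m g = 1) (hr : ¬ SectionalPRankLE 2 4 G)
    (S : SSix x φ) : ∃ φ' : Perm (Fin 6) →* G, Uni x φ' := by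
  classical
  have t1 := S.tr_one hG
  have t2 := S.tr_two hG
  obtain ⟨k, hk⟩ := Parity.four_dvd hG S.xx
  have hn := S.ncard_all
  have hc := Parity.card_conj x
  rw [S.card] at hc
  have h64 : 64 ∣ Nat.card G := by
    by_contra h
    exact hr (S.rank_of_odd h)
  have heven : Even (Nat.card {d : G // IsConj x d}) := by
    by_contra h
    rw [Nat.not_even_iff_odd] at h
    obtain ⟨m, hm⟩ := h
    obtain ⟨l, hl⟩ := h64
    omega
  rw [hk, hn] at heven
  have hb : IsConj x (x * φ c2) := by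
    by_contra hb
    rw [if_neg hb] at t1 t2 heven
    by_cases a1 : IsConj x (φ c1) <;> by_cases a2 : IsConj x (x * φ c1) <;> by_cases a3 : IsConj x (φ c3) <;>
      by_cases a4 : IsConj x (x * φ c3) <;>
      simp only [a1, a2, a3, a4, if_true, if_false, Nat.even_iff] at t1 t2 heven <;> omega
  have e1 : IsConj x (x * φ c1) ↔ IsConj x (x * φ c3) := by
    rw [if_pos hb] at t1
    by_cases a2 : IsConj x (x * φ c1) <;> by_cases a4 : IsConj x (x * φ c3) <;>
      simp only [a2, a4, if_true, if_false, Nat.even_iff] at t1 ⊢ <;> omega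
  have e2 : IsConj x (φ c1) ↔ IsConj x (φ c3) := by
    rw [if_pos hb] at t2
    by_cases a2 : IsConj x (φ c1) <;> by_cases a4 : IsConj x (φ c3) <;>
      simp only [a2, a4, if_true, if_false, Nat.even_iff] at t2 ⊢ <;> omega
  by_cases a1 : IsConj x (φ c1)
  · by_cases a2 : IsConj x (x * φ c1)
    · exact (S.no_all h64 a1 a2 (e2.1 a1) hb (e1.1 a2)).elim
    · -- the twist
      refine ⟨_, S.spl_twist.uni_of ?_ ?_ ?_ ?_ ?_⟩
      · rw [twist_of_odd _ _ (by decide)]; exact a2
      · rw [twist_of_odd _ _ (by decide), ← mul_assoc, S.xx, one_mul]; exact a1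
      · rw [twist_of_odd _ _ (by decide)]; exact fun h => a2 (e1.2 h)
      · rw [twist_of_even _ _ (by decide)]; exact hb
      · rw [twist_of_odd _ _ (by decide), ← mul_assoc, S.xx, one_mul]; exact e2.1 a1
  · by_cases a2 : IsConj x (x * φ c1)
    · exact ⟨φ, S.uni_of a1 a2 (fun h => a1 (e2.2 h)) hb (e1.1 a2)⟩
    · exfalso
      have a3 : ¬ IsConj x (φ c3) := fun h => a1 (e2.2 h)
      have a4 : ¬ IsConj x (x * φ c3) := fun h => a2 (e1.2 h)
      rw [if_neg a1, if_neg a2, if_neg a3, if_neg a4, if_pos hb] at hn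
      refine S.caseA ?_ a1 a2 a3 hb a4
      rintro ⟨l, hl⟩
      omega

end SSix

end Cfsg.Agent.OddHalf.D6.Six
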