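import Cfsg.Agent.OddHalf.D6.Six.Transfer
import Cfsg.Agent.GH.Rank

/-!
# ODD D6, `C_G(x) = ⟨x⟩ × S₆`: the Sylow 2-subgroup of `C_G(x)` (helper708)
-/

set_option autoImplicit false

namespace Cfsg.Agent.OddHalf.D6.Six

open Subgroup Equiv

abbrev a0 : Perm (Fin 6) := swap 0 1
abbrev e0 : Perm (Fin 6) := swap 0 2 * swap 1 3

/-- elements of `S₆` commuting with `c₁` and `c₂` -/
def PP (p : Perm (Fin 6)) : Prop := p * c1 = c1 * p ∧ p * c2 = c2 * p

instance : DecidablePred PP := fun p => by unfold PP; infer_instance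

theorem card_PP : (Finset.univ.filter fun p : Perm (Fin 6) => PP p).card = 16 := by decide +kernel

theorem center_PP : ∀ p : Perm (Fin 6), PP p → p * a0 = a0 * p → p * e0 = e0 * p →
    p = 1 ∨ p = c1 ∨ p = c2 ∨ p = c3 := by decide +kernel

/-- the Sylow 2-subgroup `C_G(x, φ c₁, φ c₂)` of `C_G(x)` -/
def TT {G : Type*} [Group G] (x : G) (φ : Perm (Fin 6) →* G) : Subgroup G :=
  centralizer ({x, φ c1, φ c2} : Set G)

theorem mem_TT {G : Type*} [Group G] {x : G} {φ : Perm (Fin 6) →* G} {g : G} :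
    g ∈ TT x φ ↔ g * x = x * g ∧ g * φ c1 = φ c1 * g ∧ g * φ c2 = φ c2 * g := by
  unfold TT
  rw [mem_centralizer_iff]
  constructor
  · intro h
    exact ⟨(h x (by simp)).symm, (h _ (by simp)).symm, (h _ (by simp)).symm⟩
  · rintro ⟨h1, h2, h3⟩ y hy
    simp only [Set.mem_insert_iff, Set.mem_singleton_iff] at hy
    rcases hy with rfl | rfl | rfl
    · exact h1.symm
    · exact h2.symm
    · exact h3.symm

namespace SSix

variable {G : Type*} [Group G] {x : G} {φ : Perm (Fin 6) →* G}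

theorem comm_iff (S : SSix x φ) {p q : Perm (Fin 6)} : φ p * φ q = φ q * φ p ↔ p * q = q * p := by
  rw [← map_mul, ← map_mul]
  exact ⟨fun h => S.inj h, fun h => by rw [h]⟩

theorem comm_iff' (S : SSix x φ) {p q : Perm (Fin 6)} : x * φ p * φ q = φ q * (x * φ p) ↔ p * q = q * p := by
  rw [← S.comm_iff, ← mul_assoc, S.comm' q, mul_assoc, mul_assoc]
  exact ⟨fun h => mul_left_cancel h, fun h => by rw [h]⟩

theorem mem_TT_iff (S : SSix x φ) {g : G} : g ∈ TT x φ ↔ ∃ p, PP p ∧ (g = φ p ∨ g = x * φ p) := by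
  rw [mem_TT]
  constructor
  · rintro ⟨h1, h2, h3⟩
    obtain ⟨p, rfl | rfl⟩ := S.cx g h1
    · exact ⟨p, ⟨S.comm_iff.1 h2, S.comm_iff.1 h3⟩, Or.inl rfl⟩
    · exact ⟨p, ⟨S.comm_iff'.1 h2, S.comm_iff'.1 h3⟩, Or.inr rfl⟩
  · rintro ⟨p, ⟨h1, h2⟩, rfl | rfl⟩
    · exact ⟨S.comm' p, S.comm_iff.2 h1, S.comm_iff.2 h2⟩
    · exact ⟨mem_centralizer_singleton_iff.1 (S.mem_cen' p), S.comm_iff'.2 h1, S.comm_iff'.2 h2⟩

theorem card_TT [Finite G] (S : SSix x φ) : Nat.card (TT x φ) = 32 := by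
  classical
  let e : Bool × {p // PP p} ≃ TT x φ := Equiv.ofBijective
    (fun b => ⟨(if b.1 then x else 1) * φ b.2, by
      rw [S.mem_TT_iff]
      refine ⟨b.2, b.2.2, ?_⟩
      split_ifs
      · exact Or.inr rfl
      · exact Or.inl (one_mul _)⟩) (by
    constructor
    · rintro ⟨b, p⟩ ⟨c, q⟩ h
      have h1 : (if b then x else 1) * φ p = (if c then x else 1) * φ q := congrArg Subtype.val h
      cases b <;> cases c
      · simp only [Bool.false_eq_true, if_false, one_mul] at h1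
        rw [Subtype.ext (S.inj h1)]
      · simp only [Bool.false_eq_true, if_false, one_mul, if_true] at h1
        exact absurd h1 (S.ne p q)
      · simp only [Bool.false_eq_true, if_false, one_mul, if_true] at h1
        exact absurd h1.symm (S.ne q p)
      · simp only [if_true] at h1
        rw [Subtype.ext (S.mul_inj h1)]
    · rintro ⟨g, hg⟩
      obtain ⟨p, hp, rfl | rfl⟩ := S.mem_TT_iff.1 hg
      · exact ⟨(false, ⟨p, hp⟩), Subtype.ext (by simp)⟩
      · exact ⟨(true, ⟨p, hp⟩), Subtype.ext (by simp)⟩)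
  rw [← Nat.card_congr e, Nat.card_prod]
  have h1 : Nat.card {p // PP p} = 16 := by
    rw [Nat.card_eq_fintype_card, Fintype.card_subtype, card_PP]
  rw [h1]
  simp

/-- the centre of `T` -/
theorem center_TT (S : SSix x φ) {g : G} (hg : g ∈ TT x φ) (h : ∀ t ∈ TT x φ, t * g = g * t) :
    ∃ p, (p = 1 ∨ p = c1 ∨ p = c2 ∨ p = c3) ∧ (g = φ p ∨ g = x * φ p) := by
  obtain ⟨p, hp, hgp⟩ := S.mem_TT_iff.1 hg
  refine ⟨p, center_PP p hp ?_ ?_, hgp⟩
  · have h1 := h (φ a0) (S.mem_TT_iff.2 ⟨a0, ⟨by decide, by decide⟩, Or.inl rfl⟩)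
    rcases hgp with rfl | rfl
    · exact (S.comm_iff.1 h1).symm
    · exact S.comm_iff'.1 h1.symm
  · have h1 := h (φ e0) (S.mem_TT_iff.2 ⟨e0, ⟨by decide, by decide⟩, Or.inl rfl⟩)
    rcases hgp with rfl | rfl
    · exact (S.comm_iff.1 h1).symm
    · exact S.comm_iff'.1 h1.symm

theorem card_of_conj [Finite G] (S : SSix x φ) {d : G} (h : IsConj x d) :
    Nat.card (centralizer ({d} : Set G)) = 1440 := by
  obtain ⟨g, rfl⟩ := isConj_iff.1 h
  rw [← S.card]
  have e1 : ∀ c : centralizer ({x} : Set G), g * (c : G) * g⁻¹ ∈ centralizer ({g * x * g⁻¹} : Set G) := by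
    intro c
    rw [mem_centralizer_singleton_iff]
    have := mem_centralizer_singleton_iff.1 c.2
    calc g * (c : G) * g⁻¹ * (g * x * g⁻¹) = g * (c * x) * g⁻¹ := by group
      _ = g * (x * c) * g⁻¹ := by rw [this]
      _ = g * x * g⁻¹ * (g * c * g⁻¹) := by group
  have e2 : ∀ c : centralizer ({g * x * g⁻¹} : Set G), g⁻¹ * (c : G) * g ∈ centralizer ({x} : Set G) := by
    intro c
    rw [mem_centralizer_singleton_iff]
    have := mem_centralizer_singleton_iff.1 c.2
    calc g⁻¹ * (c : G) * g * x = g⁻¹ * (c * (g * x * g⁻¹)) * g := by group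
      _ = g⁻¹ * (g * x * g⁻¹ * c) * g := by rw [this]
      _ = x * (g⁻¹ * c * g) := by group
  exact (Nat.card_congr
    { toFun := fun c => ⟨_, e1 c⟩
      invFun := fun c => ⟨_, e2 c⟩
      left_inv := fun c => Subtype.ext (by show g⁻¹ * (g * (c : G) * g⁻¹) * g = c; group)
      right_inv := fun c => Subtype.ext (by show g * (g⁻¹ * (c : G) * g) * g⁻¹ = c; group) }).symm

/-- a subgroup of order 64 is not contained in the centralizer of a conjugate of `x` -/
theorem not_le [Finite G] (S : SSix x φ) {d : G} (h : IsConj x d) {K : Subgroup G} (hK : Nat.card K = 64)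
    (hd : ∀ k ∈ K, k * d = d * k) : False := by
  have h1 : K ≤ centralizer ({d} : Set G) := fun k hk => mem_centralizer_singleton_iff.2 (hd k hk)
  have h2 := card_dvd_of_le h1
  rw [hK, S.card_of_conj h] at h2
  revert h2
  decide

end SSix

/-- a subgroup of index two with a larger one -/
theorem exists_grow {G : Type*} [Group G] [Finite G] {T : Subgroup G} (hT : Nat.card T = 32)
    (h : 64 ∣ Nat.card G) : ∃ (K : Subgroup G) (s : G), Nat.card K = 64 ∧ T ≤ K ∧ s ∈ K ∧ s ∉ T ∧ s * s ∈ T ∧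
      (∀ t ∈ T, s * t * s⁻¹ ∈ T) ∧ ∀ k ∈ K, k ∈ T ∨ s * k ∈ T := by
  have : Fact (Nat.Prime 2) := ⟨Nat.prime_two⟩
  obtain ⟨K, hK, hTK⟩ := Sylow.exists_subgroup_card_pow_succ (p := 2) (n := 5) (by simpa using h)
    (by rw [hT]; norm_num)
  have hi : (T.subgroupOf K).index = 2 := by
    have h1 := card_mul_index (T.subgroupOf K)
    rw [Nat.card_congr (subgroupOfEquivOfLe hTK).toEquiv, hT, hK] at h1
    omega
  have hn : (T.subgroupOf K).Normal := normal_of_index_eq_two hi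
  obtain ⟨s, hsK, hsT⟩ : ∃ s ∈ K, s ∉ T := by
    by_contra hc
    push Not at hc
    have h1 : K ≤ T := hc
    have h2 := card_dvd_of_le h1
    rw [hK, hT] at h2
    revert h2
    decide
  refine ⟨K, s, by rw [hK]; norm_num, hTK, hsK, hsT, ?_, ?_, ?_⟩
  · have h1 := mul_self_mem_of_index_two hi (⟨s, hsK⟩ : K)
    rwa [mem_subgroupOf] at h1
  · intro t ht
    have h1 := hn.conj_mem ⟨t, hTK ht⟩ (by rw [mem_subgroupOf]; exact ht) ⟨s, hsK⟩
    rwa [mem_subgroupOf] at h1
  · intro k hk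
    have h1 := mul_mem_iff_of_index_two hi (a := (⟨s, hsK⟩ : K)) (b := ⟨k, hk⟩)
    rw [mem_subgroupOf, mem_subgroupOf, mem_subgroupOf] at h1
    by_cases h2 : k ∈ T
    · exact Or.inl h2
    · exact Or.inr (h1.2 (by simp [hsT, h2]))

namespace SSix

variable {G : Type*} [Group G] {x : G} {φ : Perm (Fin 6) →* G}

/-- the pattern in which all but `φ c₂` of the involutions of `Z(T)` are conjugate to `x` is impossible -/
theorem no_all [Finite G] (S : SSix x φ) (h64 : 64 ∣ Nat.card G) (h1 : IsConj x (φ c1))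
    (h2 : IsConj x (x * φ c1)) (h3 : IsConj x (φ c3)) (h4 : IsConj x (x * φ c2)) (h5 : IsConj x (x * φ c3)) :
    False := by
  obtain ⟨K, s, hK, hTK, hsK, hsT, hss, hsn, hKT⟩ := exists_grow S.card_TT h64
  have hTx : ∀ t ∈ TT x φ, t * x = x * t := fun t ht => (mem_TT.1 ht).1
  have hT1 : ∀ t ∈ TT x φ, t * φ c1 = φ c1 * t := fun t ht => (mem_TT.1 ht).2.1
  have hT2 : ∀ t ∈ TT x φ, t * φ c2 = φ c2 * t := fun t ht => (mem_TT.1 ht).2.2
  have e13 : c1 * c2 = c3 := by decide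
  have hT3 : ∀ t ∈ TT x φ, t * φ c3 = φ c3 * t := by
    intro t ht
    rw [← e13, map_mul, ← mul_assoc, hT1 t ht, mul_assoc, hT2 t ht, mul_assoc]
  have hmul : ∀ {a b : G}, (∀ t ∈ TT x φ, t * a = a * t) → (∀ t ∈ TT x φ, t * b = b * t) →
      ∀ t ∈ TT x φ, t * (a * b) = a * b * t := by
    intro a b ha hb t ht
    rw [← mul_assoc, ha t ht, mul_assoc, hb t ht, mul_assoc]
  -- `s` does not centralize a conjugate of `x` in `Z(T)`
  have hfix : ∀ d, IsConj x d → (∀ t ∈ TT x φ, t * d = d * t) → s * d * s⁻¹ ≠ d := by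
    intro d hd hc hsd
    apply S.not_le hd hK
    intro k hk
    have hs : s * d = d * s := mul_inv_eq_iff_eq_mul.1 hsd
    rcases hKT k hk with h | h
    · exact hc k h
    · have h6 := hc _ h
      have h7 : s * (k * d) = s * (d * k) := by
        rw [← mul_assoc, h6, ← mul_assoc, ← hs, mul_assoc]
      exact mul_left_cancel h7
  -- the conjugates under `s` are in `Z(T)`
  have hcen : ∀ d ∈ TT x φ, (∀ t ∈ TT x φ, t * d = d * t) → s * d * s⁻¹ ∈ TT x φ ∧
      ∀ t ∈ TT x φ, t * (s * d * s⁻¹) = s * d * s⁻¹ * t := by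
    intro d hd hc
    refine ⟨hsn d hd, fun t ht => ?_⟩
    -- `s⁻¹ t s = s⁻² (s t s⁻¹) s²`
    have h6 : s⁻¹ * t * s ∈ TT x φ := by
      have h7 : s⁻¹ * t * s = (s * s)⁻¹ * (s * t * s⁻¹) * (s * s) := by group
      rw [h7]
      exact mul_mem (mul_mem (inv_mem hss) (hsn t ht)) hss
    have h8 := hc _ h6
    calc t * (s * d * s⁻¹) = s * (s⁻¹ * t * s * d) * s⁻¹ := by group
      _ = s * (d * (s⁻¹ * t * s)) * s⁻¹ := by rw [h8]
      _ = s * d * s⁻¹ * t := by group
  have hsq : ∀ d, (∀ t ∈ TT x φ, t * d = d * t) → s * (s * d * s⁻¹) * s⁻¹ = d := by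
    intro d hc
    have h6 := hc _ hss
    calc s * (s * d * s⁻¹) * s⁻¹ = (s * s * d) * (s * s)⁻¹ := by group
      _ = d := by rw [h6]; group
  -- the elements fixed by `s`
  have mem : ∀ p, PP p → φ p ∈ TT x φ := fun p hp => S.mem_TT_iff.2 ⟨p, hp, Or.inl rfl⟩
  have hxT : x ∈ TT x φ := mem_TT.2 ⟨rfl, S.comm c1, S.comm c2⟩
  have key : ∀ d ∈ TT x φ, (∀ t ∈ TT x φ, t * d = d * t) → s * d * s⁻¹ = d → d ≠ 1 → d = φ c2 := by
    intro d hd hc hsd hd1
    obtain ⟨p, hp, hdp⟩ := S.center_TT hd hc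
    have hx1 : ∀ d', d = d' → IsConj x d' → False := by
      rintro _ rfl h
      exact hfix d h hc hsd
    rcases hp with rfl | rfl | rfl | rfl <;> rcases hdp with h | h
    · exact absurd (h.trans (map_one φ)) hd1
    · exact (hx1 x (h.trans (by rw [map_one, mul_one])) (IsConj.refl x)).elim
    · exact (hx1 _ h h1).elim
    · exact (hx1 _ h h2).elim
    · exact h
    · exact (hx1 _ h h4).elim
    · exact (hx1 _ h h3).elim
    · exact (hx1 _ h h5).elim
  have main : ∀ d ∈ TT x φ, (∀ t ∈ TT x φ, t * d = d * t) → d * d = 1 → IsConj x d →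
      s * d * s⁻¹ = d * φ c2 := by
    intro d hd hc hdd hxd
    obtain ⟨h6, h7⟩ := hcen d hd hc
    have h8 : d * (s * d * s⁻¹) = φ c2 := by
      apply key _ (mul_mem hd h6) (hmul hc h7)
      · calc s * (d * (s * d * s⁻¹)) * s⁻¹ = (s * d * s⁻¹) * (s * (s * d * s⁻¹) * s⁻¹) := by group
          _ = (s * d * s⁻¹) * d := by rw [hsq d hc]
          _ = d * (s * d * s⁻¹) := hc _ h6
      · intro h9
        apply hfix d hxd hc
        rw [eq_inv_of_mul_eq_one_right h9, inv_eq_of_mul_eq_one_left hdd]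
    rw [← h8, ← mul_assoc, hdd, one_mul]
  have m1 := main x hxT hTx S.xx (IsConj.refl x)
  have m2 := main (φ c1) (mem c1 ⟨rfl, by decide⟩) hT1 (by rw [← map_mul, show c1 * c1 = 1 by decide, map_one]) h1
  have m3 := main (x * φ c1) (mul_mem hxT (mem c1 ⟨rfl, by decide⟩)) (hmul hTx hT1)
    (by rw [mul_assoc, ← mul_assoc (φ c1), S.comm' c1, mul_assoc, ← mul_assoc, S.xx, one_mul, ← map_mul,
      show c1 * c1 = 1 by decide, map_one]) h2
  have m4 : s * (x * φ c1) * s⁻¹ = x * φ c1 := by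
    calc s * (x * φ c1) * s⁻¹ = (s * x * s⁻¹) * (s * φ c1 * s⁻¹) := by group
      _ = x * φ c2 * (φ c1 * φ c2) := by rw [m1, m2]
      _ = x * (φ (c2 * (c1 * c2))) := by rw [map_mul φ c2, map_mul φ c1, mul_assoc]
      _ = x * φ c1 := by rw [show c2 * (c1 * c2) = c1 by decide]
  exact hfix (x * φ c1) h2 (hmul hTx hT1) m4

/-- if `x` has an odd number of conjugates then `G` has sectional rank at most 4 -/
theorem rank_of_odd [Finite G] (S : SSix x φ) (h64 : ¬ 64 ∣ Nat.card G) : SectionalPRankLE 2 4 G := by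
  have : Fact (Nat.Prime 2) := ⟨Nat.prime_two⟩
  have hp : IsPGroup 2 (TT x φ) := IsPGroup.of_card (n := 5) (by rw [S.card_TT]; norm_num)
  obtain ⟨P, hP⟩ := hp.exists_le_sylow
  obtain ⟨n, hn⟩ := IsPGroup.iff_card.1 P.isPGroup'
  have h5 : n = 5 := by
    have h1 : 5 ≤ n := by
      have h2 := card_dvd_of_le hP
      rw [S.card_TT] at h2
      have h3 : Nat.card (P : Subgroup G) = 2 ^ n := hn
      rw [h3, show 32 = 2 ^ 5 by norm_num] at h2
      exact (Nat.pow_dvd_pow_iff_le_right (by norm_num)).1 h2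
    by_contra h2
    apply h64
    have h3 : 2 ^ 6 ∣ 2 ^ n := pow_dvd_pow 2 (by omega)
    have h4 : Nat.card (P : Subgroup G) ∣ Nat.card G := card_subgroup_dvd_card _
    rw [show Nat.card (P : Subgroup G) = 2 ^ n from hn] at h4
    exact (show 64 = 2 ^ 6 by norm_num) ▸ h3.trans h4
  rw [← GH.Rank.sylow_iff P]
  let c : Perm (Fin 6) := a0 * e0
  have hc4 : orderOf c = 4 := by
    have : orderOf c = 2 ^ (1 + 1) := orderOf_eq_prime_pow (by decide) (by decide)
    simpa using this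
  have hcT : φ c ∈ TT x φ := S.mem_TT_iff.2 ⟨c, ⟨by decide, by decide⟩, Or.inl rfl⟩
  have hcP : φ c ∈ (P : Subgroup G) := hP hcT
  let k : (P : Subgroup G) := ⟨φ c, hcP⟩
  have hk : orderOf k = 4 := by
    rw [← hc4, ← orderOf_injective φ S.inj c]
    exact Subgroup.orderOf_mk _ _
  have h1 : SectionalPRankLE 2 1 (zpowers k) := by
    intro H N _ E _ hE
    have h0 : IsCyclic (H ⧸ N) := isCyclic_of_surjective (QuotientGroup.mk' N) (QuotientGroup.mk'_surjective N)
    obtain ⟨g, hg⟩ := IsCyclic.exists_generator (α := E)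
    have h1 : Nat.card E = orderOf g := (orderOf_eq_card_of_forall_mem_zpowers hg).symm
    rw [h1]
    apply orderOf_le_of_pow_eq_one (by norm_num)
    rw [pow_one]
    exact Subtype.ext (hE g g.2)
  refine GH.Rank.of_index_le (K := zpowers k) (a := 1) (b := 3) h1 ?_
  have h2 := card_mul_index (zpowers k)
  rw [Nat.card_zpowers, hk, show Nat.card (P : Subgroup G) = 2 ^ n from hn, h5] at h2
  omega

end SSix

end Cfsg.Agent.OddHalf.D6.Six
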