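import Cfsg.Agent.OddHalf.TFormula

/-!
# The transfer formula, counting form (ODD, helper419)

`G` finite without homomorphism onto `{±1}`, `x` an involution, `H ≤ G`, `lam : H →* {±1}`. The number of the
conjugates `d ∈ H` of `x` with `lam d = -1`, times `|C(x)|`, is an even multiple of `|H|`.
-/

set_option autoImplicit false

namespace Cfsg.Agent.OddHalf.D6.Six.TF

open Subgroup

variable {G : Type*} [Group G]

/-- the conjugates of `x` in `H` with `lam = -1` -/
def Neg (x : G) (H : Subgroup G) (lam : H →* ℤˣ) : Set G :=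
  {d | IsConj x d ∧ ∃ h : d ∈ H, lam ⟨d, h⟩ = -1}

theorem exists_even [Finite G] (hG : ∀ (φ : G →* ℤˣ) (u : G), φ u = 1) {x : G} (hx : x * x = 1)
    (H : Subgroup G) (lam : H →* ℤˣ) :
    ∃ m : ℕ, Even m ∧ m * Nat.card H = (Neg x H lam).ncard * Nat.card (centralizer ({x} : Set G)) := by
  classical
  have : Fintype G := Fintype.ofFinite G
  have : Fintype (G ⧸ H) := Fintype.ofFinite _
  obtain ⟨f, hf, s, hs, hprod⟩ := TFormula.transfer_eq_prod H lam x hx ⊥ IsPGroup.of_bot
    (fun y hy => by rw [mem_bot.1 hy]; simp)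
  rw [hG (MonoidHom.transfer lam) x] at hprod
  -- the fixed cosets with value `-1`
  set s' := s.filter (fun q => f q = -1) with hs'
  have heven : Even s'.card := by
    have h1 : ∏ q ∈ s, f q = (-1) ^ s'.card := by
      rw [← Finset.prod_filter_mul_prod_filter_not s (fun q => f q = -1)]
      have h2 : ∏ q ∈ s.filter (fun q => ¬ f q = -1), f q = 1 := by
        apply Finset.prod_eq_one
        intro q hq
        rcases Int.units_eq_one_or (f q) with h | h
        · exact h
        · exact absurd h (Finset.mem_filter.1 hq).2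
      rw [h2, mul_one, Finset.prod_congr rfl (fun q hq => (Finset.mem_filter.1 hq).2),
        Finset.prod_const]
    rw [h1] at hprod
    by_contra h
    rw [Nat.not_even_iff_odd] at h
    rw [h.neg_one_pow] at hprod
    exact absurd hprod (by decide)
  refine ⟨s'.card, heven, ?_⟩
  -- the set of all `g` with `g⁻¹ x g ∈ H`, `lam = -1`
  let A : Set G := {g | ∃ h : g⁻¹ * x * g ∈ H, lam ⟨g⁻¹ * x * g, h⟩ = -1}
  have mem_s : ∀ g : G, (g : G ⧸ H) ∈ s ↔ g⁻¹ * x * g ∈ H := by
    intro g
    rw [hs]
    constructor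
    · rintro ⟨h, -⟩
      have h1 : ((x * g : G) : G ⧸ H) = (g : G ⧸ H) := h
      rw [eq_comm, QuotientGroup.eq] at h1
      rwa [← mul_assoc] at h1
    · intro h
      refine ⟨?_, fun y hy => by rw [mem_bot.1 hy, one_smul]⟩
      show ((x * g : G) : G ⧸ H) = (g : G ⧸ H)
      rw [eq_comm, QuotientGroup.eq, ← mul_assoc]
      exact h
  have mem_s' : ∀ g : G, (g : G ⧸ H) ∈ s' ↔ g ∈ A := by
    intro g
    rw [hs', Finset.mem_filter, mem_s]
    constructor
    · rintro ⟨h, h1⟩
      exact ⟨h, by rw [← hf _ g rfl h]; exact h1⟩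
    · rintro ⟨h, h1⟩
      exact ⟨h, by rw [hf _ g rfl h]; exact h1⟩
  -- count `A` by cosets of `H`
  have hA1 : A.ncard = s'.card * Nat.card H := by
    let e : A ≃ s' × H :=
      { toFun := fun g => ⟨⟨(g : G), (mem_s' g).2 g.2⟩, ⟨(Quotient.out ((g : G) : G ⧸ H))⁻¹ * g, by
          have h1 : ((Quotient.out ((g : G) : G ⧸ H) : G) : G ⧸ H) = ((g : G) : G ⧸ H) :=
            Quotient.out_eq _
          exact QuotientGroup.eq.1 h1⟩⟩
        invFun := fun p => ⟨Quotient.out (p.1 : G ⧸ H) * p.2, by
          rw [← mem_s']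
          have h1 : ((Quotient.out (p.1 : G ⧸ H) * (p.2 : G) : G) : G ⧸ H) = p.1 := by
            rw [QuotientGroup.mk_mul_of_mem _ p.2.2]
            exact Quotient.out_eq _
          rw [h1]
          exact p.1.2⟩
        left_inv := fun g => Subtype.ext (by
          show Quotient.out ((g : G) : G ⧸ H) * ((Quotient.out ((g : G) : G ⧸ H))⁻¹ * (g : G)) = g
          rw [mul_inv_cancel_left])
        right_inv := fun p => by
          have h1 : ((Quotient.out (p.1 : G ⧸ H) * (p.2 : G) : G) : G ⧸ H) = p.1 := by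
            rw [QuotientGroup.mk_mul_of_mem _ p.2.2]
            exact Quotient.out_eq _
          refine Prod.ext (Subtype.ext h1) (Subtype.ext ?_)
          show (Quotient.out ((Quotient.out (p.1 : G ⧸ H) * (p.2 : G) : G) : G ⧸ H))⁻¹ *
            (Quotient.out (p.1 : G ⧸ H) * (p.2 : G)) = p.2
          rw [h1, inv_mul_cancel_left] }
    have h2 := Nat.card_congr e
    rw [Nat.card_prod] at h2
    have h3 : Nat.card s' = s'.card := by
      rw [Nat.card_eq_fintype_card, Fintype.card_coe]
    rw [← h3, ← h2]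
    rfl
  -- count `A` by `g ↦ g⁻¹ x g`
  have hA2 : A.ncard = (Neg x H lam).ncard * Nat.card (centralizer ({x} : Set G)) := by
    have hch : ∀ d : Neg x H lam, ∃ g : G, g⁻¹ * x * g = d := by
      rintro ⟨d, hd, -⟩
      obtain ⟨c, hc⟩ := isConj_iff.1 hd
      exact ⟨c⁻¹, by rw [inv_inv]; exact hc⟩
    choose w hw using hch
    let e : A ≃ Neg x H lam × centralizer ({x} : Set G) :=
      { toFun := fun g =>
          let d : Neg x H lam := ⟨(g : G)⁻¹ * x * g,
            isConj_iff.2 ⟨(g : G)⁻¹, by rw [inv_inv]⟩, g.2⟩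
          ⟨d, ⟨(g : G) * (w d)⁻¹, by
            rw [mem_centralizer_singleton_iff]
            have h1 := hw d
            have h2 : x = w d * ((g : G)⁻¹ * x * g) * (w d)⁻¹ := by
              rw [show ((g : G)⁻¹ * x * g) = (w d)⁻¹ * x * w d from h1.symm]; group
            calc (g : G) * (w d)⁻¹ * x = (g : G) * (w d)⁻¹ * (w d * ((g : G)⁻¹ * x * g) * (w d)⁻¹) := by
                  rw [← h2]
              _ = x * ((g : G) * (w d)⁻¹) := by group⟩⟩
        invFun := fun p => ⟨(p.2 : G) * w p.1, by
          obtain ⟨h1, h2⟩ := p.1.2.2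
          have h3 : ((p.2 : G) * w p.1)⁻¹ * x * ((p.2 : G) * w p.1) = p.1 := by
            have h4 := mem_centralizer_singleton_iff.1 p.2.2
            calc ((p.2 : G) * w p.1)⁻¹ * x * ((p.2 : G) * w p.1)
                = (w p.1)⁻¹ * (p.2 : G)⁻¹ * (x * p.2) * w p.1 := by group
              _ = (w p.1)⁻¹ * (p.2 : G)⁻¹ * (p.2 * x) * w p.1 := by rw [h4]
              _ = (w p.1)⁻¹ * x * w p.1 := by group
              _ = p.1 := hw p.1
          refine ⟨by rw [h3]; exact h1, ?_⟩
          rw [← h2]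
          congr 1
          exact Subtype.ext h3⟩
        left_inv := fun g => Subtype.ext (by
          show (g : G) * (w _)⁻¹ * w _ = g
          rw [inv_mul_cancel_right])
        right_inv := fun p => by
          have h3 : ((p.2 : G) * w p.1)⁻¹ * x * ((p.2 : G) * w p.1) = p.1 := by
            have h4 := mem_centralizer_singleton_iff.1 p.2.2
            calc ((p.2 : G) * w p.1)⁻¹ * x * ((p.2 : G) * w p.1)
                = (w p.1)⁻¹ * (p.2 : G)⁻¹ * (x * p.2) * w p.1 := by group
              _ = (w p.1)⁻¹ * (p.2 : G)⁻¹ * (p.2 * x) * w p.1 := by rw [h4]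
              _ = (w p.1)⁻¹ * x * w p.1 := by group
              _ = p.1 := hw p.1
          have h5 : ∀ (d : Neg x H lam), (d : G) = p.1 → (p.2 : G) * w p.1 * (w d)⁻¹ = p.2 := by
            intro d hd
            rw [show d = p.1 from Subtype.ext hd, mul_inv_cancel_right]
          exact Prod.ext (Subtype.ext h3) (Subtype.ext (h5 _ h3)) }
    have h2 := Nat.card_congr e
    rw [Nat.card_prod] at h2
    exact h2
  rw [← hA1, hA2]

/-- the counting form, as a parity statement: `|C(x)| |D₋| = k |H|` forces `k` even -/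
theorem even_of_eq [Finite G] (hG : ∀ (φ : G →* ℤˣ) (u : G), φ u = 1) {x : G} (hx : x * x = 1)
    (H : Subgroup G) (lam : H →* ℤˣ) {k : ℕ}
    (h : (Neg x H lam).ncard * Nat.card (centralizer ({x} : Set G)) = k * Nat.card H) : Even k := by
  obtain ⟨m, hm, h1⟩ := exists_even hG hx H lam
  rw [h] at h1
  have : 0 < Nat.card H := Nat.card_pos
  rw [← Nat.eq_of_mul_eq_mul_right this h1]
  exact hm

end Cfsg.Agent.OddHalf.D6.Six.TF
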