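import Cfsg.Agent.OddHalf.D6.Six.Defs
import Cfsg.Agent.OddHalf.D6.Six.Count
import Cfsg.Agent.OddHalf.D6.Six.TF
import Cfsg.Agent.OddHalf.D6.Six.Parity

/-!
# ODD D6, `C_G(x) = ⟨x⟩ × S₆`: the two transfers (helper708)

With `a = [x ~ φ c₁]`, `c = [x ~ φ c₃]`, `a' = [x ~ x φ c₁]`, `b' = [x ~ x φ c₂]`, `c' = [x ~ x φ c₃]`:
`a' + b' + c'` and `a + b' + c` are odd, `x` is not conjugate to `φ c₂`, and
`|x^G| ≡ 1 + 15 (a + a' + c + c') + 45 b'` modulo 4.
-/

set_option autoImplicit false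

namespace Cfsg.Agent.OddHalf.D6.Six

open Subgroup Equiv

namespace SSix

variable {G : Type*} [Group G] {x : G} {φ : Perm (Fin 6) →* G}

/-- a commutator of elements of `C(x)` is not `x` -/
theorem ne_comm (S : SSix x φ) {a b : G} (ha : a * x = x * a) (hb : b * x = x * b) : a * b * a⁻¹ * b⁻¹ ≠ x := by
  intro h
  have hx : S.hom (-1, 1) = x := by rw [hom_apply, if_neg (by decide), map_one, mul_one]
  obtain ⟨⟨e, p⟩, hp⟩ : a ∈ S.hom.range := by rw [S.hom_range, mem_centralizer_singleton_iff]; exact ha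
  obtain ⟨⟨e', q⟩, hq⟩ : b ∈ S.hom.range := by rw [S.hom_range, mem_centralizer_singleton_iff]; exact hb
  rw [← hp, ← hq, ← map_inv, ← map_inv, ← map_mul, ← map_mul, ← map_mul] at h
  nth_rewrite 2 [← hx] at h
  have h1 := congrArg Prod.fst (S.hom_inj h)
  simp only [Prod.fst_mul, Prod.fst_inv] at h1
  have h2 : e * e' * e⁻¹ * e'⁻¹ = 1 := by rw [mul_comm e e']; group
  rw [h2] at h1
  exact absurd h1 (by decide)

/-- a conjugate of `x` is not the commutator of two elements commuting with it -/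
theorem conj_ne_comm (S : SSix x φ) {d a b : G} (hd : IsConj x d) (ha : a * d = d * a) (hb : b * d = d * b) :
    a * b * a⁻¹ * b⁻¹ ≠ d := by
  obtain ⟨g, hg⟩ := isConj_iff.1 hd
  intro h
  have key : ∀ c, c * d = d * c → (g⁻¹ * c * g) * x = x * (g⁻¹ * c * g) := by
    intro c hc
    rw [← hg] at hc
    calc (g⁻¹ * c * g) * x = g⁻¹ * (c * (g * x * g⁻¹)) * g := by group
      _ = g⁻¹ * (g * x * g⁻¹ * c) * g := by rw [hc]
      _ = x * (g⁻¹ * c * g) := by group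
  apply S.ne_comm (key a ha) (key b hb)
  calc g⁻¹ * a * g * (g⁻¹ * b * g) * (g⁻¹ * a * g)⁻¹ * (g⁻¹ * b * g)⁻¹ = g⁻¹ * (a * b * a⁻¹ * b⁻¹) * g := by group
    _ = x := by rw [h, ← hg]; group

theorem not_c2 (S : SSix x φ) : ¬ IsConj x (φ c2) := by
  intro h
  have h1 : swap (0 : Fin 6) 1 * c2 = c2 * swap 0 1 := by decide
  have h2 : (swap (0 : Fin 6) 2 * swap 1 3) * c2 = c2 * (swap 0 2 * swap 1 3) := by decide
  have h3 : swap (0 : Fin 6) 1 * (swap (0 : Fin 6) 2 * swap 1 3) * (swap (0 : Fin 6) 1)⁻¹ *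
    (swap (0 : Fin 6) 2 * swap 1 3)⁻¹ = c2 := by decide
  apply S.conj_ne_comm h (a := φ (swap 0 1)) (b := φ (swap 0 2 * swap 1 3))
  · rw [← map_mul, h1, map_mul]
  · rw [← map_mul, h2, map_mul]
  · rw [← map_inv, ← map_inv, ← map_mul, ← map_mul, ← map_mul, h3]

theorem sq_of_conj (S : SSix x φ) {p : Perm (Fin 6)} (h : IsConj x (φ p)) : p * p = 1 := by
  obtain ⟨g, hg⟩ := isConj_iff.1 h
  apply S.inj
  rw [map_mul, map_one, ← hg]
  calc g * x * g⁻¹ * (g * x * g⁻¹) = g * (x * x) * g⁻¹ := by group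
    _ = 1 := by rw [S.xx]; group

theorem sq_of_conj' (S : SSix x φ) {p : Perm (Fin 6)} (h : IsConj x (x * φ p)) : p * p = 1 := by
  obtain ⟨g, hg⟩ := isConj_iff.1 h
  apply S.inj
  rw [map_mul, map_one]
  have h1 : (x * φ p) * (x * φ p) = 1 := by
    rw [← hg]
    calc g * x * g⁻¹ * (g * x * g⁻¹) = g * (x * x) * g⁻¹ := by group
      _ = 1 := by rw [S.xx]; group
  calc φ p * φ p = x * x * φ p * φ p := by rw [S.xx, one_mul]
    _ = x * (x * φ p) * φ p := by group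
    _ = x * (φ p * x) * φ p := by rw [S.comm]
    _ = (x * φ p) * (x * φ p) := by group
    _ = 1 := h1

theorem conj_class (S : SSix x φ) {p q : Perm (Fin 6)} (h : IsConj p q) (hp : IsConj x (φ p)) : IsConj x (φ q) := by
  obtain ⟨r, hr⟩ := isConj_iff.1 h
  refine hp.trans (isConj_iff.2 ⟨φ r, ?_⟩)
  rw [← map_inv, ← map_mul, ← map_mul, hr]

theorem conj_class' (S : SSix x φ) {p q : Perm (Fin 6)} (h : IsConj p q) (hp : IsConj x (x * φ p)) :
    IsConj x (x * φ q) := by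
  obtain ⟨r, hr⟩ := isConj_iff.1 h
  refine hp.trans (isConj_iff.2 ⟨φ r, ?_⟩)
  rw [S.conj_mul, hr]

theorem mem_cen (S : SSix x φ) (p : Perm (Fin 6)) : φ p ∈ centralizer ({x} : Set G) :=
  mem_centralizer_singleton_iff.2 (S.comm' p)

theorem mem_cen' (S : SSix x φ) (p : Perm (Fin 6)) : x * φ p ∈ centralizer ({x} : Set G) :=
  mem_centralizer_singleton_iff.2 (by rw [mul_assoc, S.comm', ← mul_assoc])

/-- the number of conjugates of `x` in `C(x)` with given value of a character -/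
theorem ncard_neg [Finite G] (S : SSix x φ) (χ : ℤˣ × Perm (Fin 6) → Prop) :
    {d : G | IsConj x d ∧ ((∃ p, d = φ p ∧ χ (1, p)) ∨ ∃ p, d = x * φ p ∧ χ (-1, p))}.ncard =
      {p | IsConj x (φ p) ∧ χ (1, p)}.ncard + {p | IsConj x (x * φ p) ∧ χ (-1, p)}.ncard := by
  have h1 : {d : G | IsConj x d ∧ ((∃ p, d = φ p ∧ χ (1, p)) ∨ ∃ p, d = x * φ p ∧ χ (-1, p))} =
      (φ '' {p | IsConj x (φ p) ∧ χ (1, p)}) ∪
      ((fun p => x * φ p) '' {p | IsConj x (x * φ p) ∧ χ (-1, p)}) := by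
    ext d
    constructor
    · rintro ⟨h, ⟨p, rfl, h2⟩ | ⟨p, rfl, h2⟩⟩
      · exact Or.inl ⟨p, ⟨h, h2⟩, rfl⟩
      · exact Or.inr ⟨p, ⟨h, h2⟩, rfl⟩
    · rintro (⟨p, ⟨h, h2⟩, rfl⟩ | ⟨p, ⟨h, h2⟩, rfl⟩)
      · exact ⟨h, Or.inl ⟨p, rfl, h2⟩⟩
      · exact ⟨h, Or.inr ⟨p, rfl, h2⟩⟩
  rw [h1, Set.ncard_union_eq, Set.ncard_image_of_injective _ S.inj, Set.ncard_image_of_injective]
  · intro p q h
    exact S.mul_inj h
  · rw [Set.disjoint_left]
    rintro _ ⟨p, -, rfl⟩ ⟨q, -, h⟩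
    exact S.ne p q h.symm

/-- **transfer** of a character `χ` of `⟨x⟩ × S₆` -/
theorem even_neg [Finite G] (hG : ∀ (m : G →* ℤˣ) (g : G), m g = 1) (S : SSix x φ)
    (χ : ℤˣ × Perm (Fin 6) →* ℤˣ) :
    Even ({d : G | IsConj x d ∧ ((∃ p, d = φ p ∧ χ (1, p) = -1) ∨ ∃ p, d = x * φ p ∧ χ (-1, p) = -1)}.ncard) := by
  obtain ⟨c, hc1, hc2⟩ := S.exists_coord
  obtain ⟨m, hm, h⟩ := TF.exists_even hG S.xx (centralizer ({x} : Set G)) (χ.comp c)
  have h0 : 0 < Nat.card (centralizer ({x} : Set G)) := Nat.card_pos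
  have h1 := Nat.eq_of_mul_eq_mul_right h0 h
  have h2 : TF.Neg x (centralizer ({x} : Set G)) (χ.comp c) =
      {d : G | IsConj x d ∧ ((∃ p, d = φ p ∧ χ (1, p) = -1) ∨ ∃ p, d = x * φ p ∧ χ (-1, p) = -1)} := by
    ext d
    constructor
    · rintro ⟨hd, hd1, hd2⟩
      refine ⟨hd, ?_⟩
      obtain ⟨p, rfl | rfl⟩ := S.cx d (mem_centralizer_singleton_iff.1 hd1)
      · left
        exact ⟨p, rfl, by rw [← hc1 p hd1]; exact hd2⟩
      · right
        exact ⟨p, rfl, by rw [← hc2 p hd1]; exact hd2⟩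
    · rintro ⟨hd, ⟨p, rfl, hp⟩ | ⟨p, rfl, hp⟩⟩
      · exact ⟨hd, S.mem_cen p, by show χ (c _) = -1; rw [hc1 p]; exact hp⟩
      · exact ⟨hd, S.mem_cen' p, by show χ (c _) = -1; rw [hc2 p]; exact hp⟩
  rw [h2] at h1
  rw [← h1]
  exact hm

open Classical in
/-- the first transfer -/
theorem tr_one [Finite G] (hG : ∀ (m : G →* ℤˣ) (g : G), m g = 1) (S : SSix x φ) :
    Even (1 + (if IsConj x (x * φ c1) then 15 else 0) + (if IsConj x (x * φ c2) then 45 else 0) +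
      (if IsConj x (x * φ c3) then 15 else 0)) := by
  have h := S.even_neg hG (MonoidHom.fst _ _)
  rw [S.ncard_neg (fun b => MonoidHom.fst ℤˣ (Perm (Fin 6)) b = -1)] at h
  have h1 : {p | IsConj x (φ p) ∧ MonoidHom.fst ℤˣ (Perm (Fin 6)) (1, p) = -1}.ncard = 0 := by
    rw [Set.ncard_eq_zero, Set.eq_empty_iff_forall_notMem]
    rintro p ⟨-, h2⟩
    exact absurd h2 (show (1 : ℤˣ) ≠ -1 by decide)
  have h2 : {p | IsConj x (x * φ p) ∧ MonoidHom.fst ℤˣ (Perm (Fin 6)) (-1, p) = -1} =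
      {p | IsConj x (x * φ p)} := by
    ext p
    exact ⟨fun h => h.1, fun h => ⟨h, rfl⟩⟩
  rw [h1, h2, zero_add, ncard_class (fun p => IsConj x (x * φ p)) (fun p => S.sq_of_conj')
    (fun p q => S.conj_class')] at h
  rwa [if_pos (show IsConj x (x * φ 1) by rw [map_one, mul_one])] at h

open Classical in
/-- the second transfer -/
theorem tr_two [Finite G] (hG : ∀ (m : G →* ℤˣ) (g : G), m g = 1) (S : SSix x φ) :
    Even ((if IsConj x (φ c1) then 15 else 0) + (if IsConj x (φ c3) then 15 else 0) +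
      (1 + (if IsConj x (x * φ c2) then 45 else 0))) := by
  let χ : ℤˣ × Perm (Fin 6) →* ℤˣ := MonoidHom.fst _ _ * (Perm.sign.comp (MonoidHom.snd _ _))
  have hχ : ∀ e p, χ (e, p) = e * Perm.sign p := fun _ _ => rfl
  have s1 : Perm.sign c1 = -1 := by decide
  have s2 : Perm.sign c2 = 1 := by decide
  have s3 : Perm.sign c3 = -1 := by decide
  have hne : (1 : ℤˣ) ≠ -1 := by decide
  have h := S.even_neg hG χ
  rw [S.ncard_neg (fun b => χ b = -1)] at h
  have hs : ∀ p q : Perm (Fin 6), IsConj p q → Perm.sign q = Perm.sign p := by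
    intro p q hpq
    obtain ⟨r, hr⟩ := isConj_iff.1 hpq
    rw [← hr, map_mul, map_mul, map_inv, mul_comm (Perm.sign r), mul_inv_cancel_right]
  rw [ncard_class (fun p => IsConj x (φ p) ∧ χ (1, p) = -1) (fun p h => S.sq_of_conj h.1)
    (fun p q hpq h => ⟨S.conj_class hpq h.1, by rw [hχ, hs p q hpq, ← hχ]; exact h.2⟩),
    ncard_class (fun p => IsConj x (x * φ p) ∧ χ (-1, p) = -1) (fun p h => S.sq_of_conj' h.1)
    (fun p q hpq h => ⟨S.conj_class' hpq h.1, by rw [hχ, hs p q hpq, ← hχ]; exact h.2⟩)] at h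
  have e1 : ¬ (IsConj x (φ 1) ∧ χ (1, 1) = -1) := by
    rintro ⟨-, h2⟩
    rw [hχ, map_one, one_mul] at h2
    exact hne h2
  have e2 : (IsConj x (φ c1) ∧ χ (1, c1) = -1) ↔ IsConj x (φ c1) := by
    rw [hχ, s1]; simp
  have e3 : ¬ (IsConj x (φ c2) ∧ χ (1, c2) = -1) := fun h2 => S.not_c2 h2.1
  have e4 : (IsConj x (φ c3) ∧ χ (1, c3) = -1) ↔ IsConj x (φ c3) := by
    rw [hχ, s3]; simp
  have e5 : (IsConj x (x * φ 1) ∧ χ (-1, 1) = -1) := by
    refine ⟨by rw [map_one, mul_one], ?_⟩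
    rw [hχ, map_one, mul_one]
  have e6 : ¬ (IsConj x (x * φ c1) ∧ χ (-1, c1) = -1) := by
    rintro ⟨-, h2⟩
    rw [hχ, s1] at h2
    exact absurd h2 (by decide)
  have e7 : (IsConj x (x * φ c2) ∧ χ (-1, c2) = -1) ↔ IsConj x (x * φ c2) := by
    rw [hχ, s2]; simp
  have e8 : ¬ (IsConj x (x * φ c3) ∧ χ (-1, c3) = -1) := by
    rintro ⟨-, h2⟩
    rw [hχ, s3] at h2
    exact absurd h2 (by decide)
  rw [if_neg e1, if_neg e3, if_pos e5, if_neg e6, if_neg e8] at h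
  simp only [e2, e4, e7, zero_add, add_zero] at h
  exact h

open Classical in
/-- the number of conjugates of `x` commuting with `x` -/
theorem ncard_all [Finite G] (S : SSix x φ) : {d : G | IsConj x d ∧ d * x = x * d}.ncard =
    ((if IsConj x (φ c1) then 15 else 0) + (if IsConj x (φ c3) then 15 else 0)) +
    (1 + (if IsConj x (x * φ c1) then 15 else 0) + (if IsConj x (x * φ c2) then 45 else 0) +
      (if IsConj x (x * φ c3) then 15 else 0)) := by
  have h := S.ncard_neg (fun _ => True)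
  have h1 : {d : G | IsConj x d ∧ ((∃ p, d = φ p ∧ True) ∨ ∃ p, d = x * φ p ∧ True)} =
      {d : G | IsConj x d ∧ d * x = x * d} := by
    ext d
    constructor
    · rintro ⟨hd, ⟨p, rfl, -⟩ | ⟨p, rfl, -⟩⟩
      · exact ⟨hd, S.comm' p⟩
      · exact ⟨hd, mem_centralizer_singleton_iff.1 (S.mem_cen' p)⟩
    · rintro ⟨hd, h2⟩
      refine ⟨hd, ?_⟩
      obtain ⟨p, h3 | h3⟩ := S.cx d h2
      · exact Or.inl ⟨p, h3, trivial⟩
      · exact Or.inr ⟨p, h3, trivial⟩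
  rw [h1] at h
  rw [h]
  have e1 : {p | IsConj x (φ p) ∧ True} = {p | IsConj x (φ p)} := by
    ext p; exact ⟨fun h => h.1, fun h => ⟨h, trivial⟩⟩
  have e2 : {p | IsConj x (x * φ p) ∧ True} = {p | IsConj x (x * φ p)} := by
    ext p; exact ⟨fun h => h.1, fun h => ⟨h, trivial⟩⟩
  rw [e1, e2, ncard_class (fun p => IsConj x (φ p)) (fun p => S.sq_of_conj) (fun p q => S.conj_class),
    ncard_class (fun p => IsConj x (x * φ p)) (fun p => S.sq_of_conj') (fun p q => S.conj_class'),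
    if_neg (show ¬ IsConj x (φ 1) by
      rw [map_one]
      intro h2
      exact S.x1 (isConj_one_left.1 h2)), if_neg S.not_c2,
    if_pos (show IsConj x (x * φ 1) by rw [map_one, mul_one])]
  omega

end SSix

end Cfsg.Agent.OddHalf.D6.Six
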